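import Mathlib
import Cfsg.Agent.Mrg.Omega.NO3S.Fit.MTri.Tri
import Cfsg.Agent.SectRankFour.C2.Defs
import Cfsg.Agent.SectRankFour.C2.Fin64Iso
import Cfsg.Agent.SectRankFour.C2.FinAutModel
import Cfsg.Agent.MTwelveType.Base
import Cfsg.Agent.SectRankFour.C2.Fin64
import Cfsg.Agent.SectRankFour.C2.FinAut
import Cfsg.Agent.Mrg.Omega.CaseL.Base
import Cfsg.Agent.Mrg.Omega.NO3S.Fit.PlaneAct
import Cfsg.Agent.Mrg.Omega.NO3S.Fit.AbsMain
import Cfsg.Agent.Mrg.Omega.NO3S.Fit.Char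
import Cfsg.Agent.Mrg.Omega.TitsAmal.TriQK
import Cfsg.Agent.Mrg.Omega.TitsAmal.Main
import Cfsg.Agent.Mrg.Omega.NO3S.Fit.AbsNat

-- merged: Cfsg.Agent.Mrg.Omega.NO3S.Fit.MTri.Conf
section

/-!
# The natural block: `NTri` is the configuration `Conf64` or `Conf128`

`W₀` of order 16 in `W`, `C_G(V) = W₀ E` with `E = C(g) ∩ C_G(V)` of order 2 or 4.
-/

set_option autoImplicit false
set_option linter.unusedSectionVars false

namespace Cfsg.Agent.Omega.NO3S.Fit.MTri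

open Subgroup Cfsg Cfsg.Agent.ZN Cfsg.Agent.MinSimple.Geo
open Cfsg.Agent.Classification.TitsFin.Tri (Pt kst cj_kst K Q)
open Cfsg.Agent.SectRankFour.C2.Defs (Conf64 Conf128)
open Cfsg.Agent.ZN.Block (conj_mem_of_normalizer conj_mem_of_normalizer' le_normalizer_of_forall
  mem_normalizer_of card_sup_mul_card_inf card_mul_relIndex' mul_mem_of_relIndex_two o2_le o2_conj o2_isPGroup
  le_o2 le_normalizer_o2)

universe u

variable {G : Type u} [Group G]

/-- the second element -/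
def bb (g a : G) : G := g * a * g⁻¹

/-- the third element -/
def cc (g a : G) : G := g * (g * a * g⁻¹) * g⁻¹

/-- the complement -/
def EE (V : Subgroup G) (g : G) : Subgroup G := centralizer (V : Set G) ⊓ centralizer ({g} : Set G)

theorem mem_EE {V : Subgroup G} {g e : G} : e ∈ EE V g ↔ e ∈ centralizer (V : Set G) ∧ e * g = g * e := by
  unfold EE
  rw [mem_inf, mem_centralizer_singleton_iff]

theorem dl_conj (n d y : G) : dl (n * d * n⁻¹) (n * y * n⁻¹) = n * dl d y * n⁻¹ := by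
  unfold dl; group

theorem conj_eq_dl (d y : G) : d * y * d⁻¹ = dl d y * y := by unfold dl; group

namespace NTri

variable {V : Subgroup G} {U C : G → Subgroup G} (h : NTri V U C) {p q r : G}

include h

theorem dl_va {d v y : G} (hp : Pt V p) (hd : d ∈ centralizer (V : Set G)) (hv : v ∈ V) (hy : y ∈ U p) :
    dl d (v * y) = dl d y := by
  have h1 := h.vcomm hv hd
  have h2 := h.vcomm hv (h.V_le_centV (h.dl_mem hp hy hd))
  unfold dl at *
  calc d * (v * y) * d⁻¹ * (v * y)⁻¹ = (d * v) * y * d⁻¹ * y⁻¹ * v⁻¹ := by group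
    _ = v * (d * y * d⁻¹ * y⁻¹) * v⁻¹ := by rw [← h1]; group
    _ = d * y * d⁻¹ * y⁻¹ := by rw [h2, mul_inv_cancel_right]

/-- the value of `dl d` on `U p ∖ V` is constant -/
theorem dl_const {d y z : G} (hp : Pt V p) (hd : d ∈ centralizer (V : Set G)) (hy : y ∈ U p) (hyV : y ∉ V)
    (hz : z ∈ U p) (hzV : z ∉ V) : dl d z = dl d y := by
  obtain ⟨v, hv, rfl⟩ := h.exists_V hp hy hyV hz hzV
  exact h.dl_va hp hd hv hy

/-- `W₀`: the elements of `W` acting uniformly -/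
def W0 : Subgroup G where
  carrier := {x | x ∈ WW V U ∧ ∃ v ∈ V, ∀ p', Pt V p' → ∀ y ∈ U p', y ∉ V → dl x y = v}
  mul_mem' := by
    rintro x y ⟨hx, v, hv, hxv⟩ ⟨hy, w, hw, hyw⟩
    refine ⟨mul_mem hx hy, v * w, mul_mem hv hw, fun p' hp' z hz hzV => ?_⟩
    rw [h.dl_mul hp' hz (h.W_le_centV hx) (h.W_le_centV hy), hxv p' hp' z hz hzV, hyw p' hp' z hz hzV]
  one_mem' := ⟨one_mem _, 1, one_mem _, fun p' _ z _ _ => by unfold dl; group⟩
  inv_mem' := by
    rintro x ⟨hx, v, hv, hxv⟩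
    refine ⟨inv_mem hx, v⁻¹, inv_mem hv, fun p' hp' z hz hzV => ?_⟩
    have h1 := h.dl_mul hp' hz (inv_mem (h.W_le_centV hx)) (h.W_le_centV hx)
    rw [inv_mul_cancel, h.dl_one, hxv p' hp' z hz hzV] at h1
    exact eq_inv_of_mul_eq_one_left h1.symm

theorem mem_W0 {x : G} : x ∈ W0 h ↔ x ∈ WW V U ∧ ∃ v ∈ V, ∀ p', Pt V p' → ∀ y ∈ U p', y ∉ V → dl x y = v :=
  Iff.rfl

theorem W0_le : W0 h ≤ WW V U := fun _ hx => hx.1

theorem V_le_W0 (hp : Pt V p) : V ≤ W0 h := fun _ hv =>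
  ⟨h.V_le_W hp hv, 1, one_mem _, fun _ hp' _ hy _ => h.dl_V hp' hy hv⟩

theorem norm_W0 : normalizer (V : Set G) ≤ normalizer (W0 h : Set G) := by
  refine le_normalizer_of_forall fun n hn x hx => ?_
  obtain ⟨hx, v, hv, hxv⟩ := hx
  refine ⟨conj_mem_of_normalizer h.norm_W hn hx, n * v * n⁻¹, h.conj_V hn hv, fun p' hp' y hy hyV => ?_⟩
  have hn' : n⁻¹ ∈ normalizer (V : Set G) := inv_mem hn
  have h1 := hxv (n⁻¹ * p' * n⁻¹⁻¹) (h.pt_conj hn' hp') (n⁻¹ * y * n⁻¹⁻¹) (h.conj_U hn' hp' hy)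
    (h.conj_notV hn' hyV)
  rw [← h1, ← dl_conj]
  congr 1; group

end NTri

namespace Fr

variable {V : Subgroup G} {U C : G → Subgroup G} {p q r g a : G} (h : Fr V U C p q r g a)

include h

theorem Ub : bb g a ∈ U q := h.hb
theorem Vb : bb g a ∉ V := h.hbV
theorem Uc : cc g a ∈ U r := h.hc
theorem Vc : cc g a ∉ V := h.hcV
theorem gb : g * bb g a * g⁻¹ = cc g a := rfl
theorem gc : g * cc g a * g⁻¹ = a := h.g3a a
theorem Da : a ∈ centralizer (V : Set G) := h.U_le_centV h.t.hp h.ha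
theorem Db : bb g a ∈ centralizer (V : Set G) := h.U_le_centV h.t.hq h.Ub
theorem Dc : cc g a ∈ centralizer (V : Set G) := h.U_le_centV h.t.hr h.Uc
theorem Wa : a ∈ WW V U := h.U_le_W h.t.hp h.ha
theorem Wb : bb g a ∈ WW V U := h.U_le_W h.t.hq h.Ub
theorem Wc : cc g a ∈ WW V U := h.U_le_W h.t.hr h.Uc

theorem ba : dl (bb g a) a = r := h.comm' (h.swp h.t) h.Ub h.Vb h.ha h.haV
theorem ca : dl (cc g a) a = q := h.comm' (h.rot (h.rot h.t)) h.Uc h.Vc h.ha h.haV
theorem ab : dl a (bb g a) = r := h.comm' h.t h.ha h.haV h.Ub h.Vb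
theorem cb : dl (cc g a) (bb g a) = p := h.comm' (h.swp (h.rot h.t)) h.Uc h.Vc h.Ub h.Vb
theorem ac : dl a (cc g a) = q := h.comm' (h.swp (h.rot (h.rot h.t))) h.ha h.haV h.Uc h.Vc
theorem bc : dl (bb g a) (cc g a) = p := h.comm' (h.rot h.t) h.Ub h.Vb h.Uc h.Vc

theorem mpq : p * q = r := h.t.eq
theorem mqp : q * p = r := (h.swp h.t).eq
theorem mqr : q * r = p := (h.rot h.t).eq
theorem mrq : r * q = p := (h.swp (h.rot h.t)).eq
theorem mrp : r * p = q := (h.rot (h.rot h.t)).eq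
theorem mpr : p * r = q := (h.swp (h.rot (h.rot h.t))).eq
theorem mpp : p * p = 1 := h.pp h.t.hp
theorem mqq : q * q = 1 := h.pp h.t.hq
theorem mrr : r * r = 1 := h.pp h.t.hr

theorem dmul_a {d d' : G} (hd : d ∈ centralizer (V : Set G)) (hd' : d' ∈ centralizer (V : Set G)) :
    dl (d * d') a = dl d a * dl d' a := h.dl_mul h.t.hp h.ha hd hd'
theorem dmul_b {d d' : G} (hd : d ∈ centralizer (V : Set G)) (hd' : d' ∈ centralizer (V : Set G)) :
    dl (d * d') (bb g a) = dl d (bb g a) * dl d' (bb g a) := h.dl_mul h.t.hq h.Ub hd hd'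
theorem dmul_c {d d' : G} (hd : d ∈ centralizer (V : Set G)) (hd' : d' ∈ centralizer (V : Set G)) :
    dl (d * d') (cc g a) = dl d (cc g a) * dl d' (cc g a) := h.dl_mul h.t.hr h.Uc hd hd'

theorem mem_W0' {x v : G} (hx : x ∈ WW V U) (hv : v ∈ V) (h1 : dl x a = v) (h2 : dl x (bb g a) = v)
    (h3 : dl x (cc g a) = v) : x ∈ h.toNTri.W0 := by
  refine ⟨hx, v, hv, fun p' hp' y hy hyV => ?_⟩
  have hd := h.W_le_centV hx
  rcases h.mem_V' h.t hp'.1 with rfl | rfl | rfl | rfl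
  · exact absurd rfl hp'.2
  · rw [h.dl_const hp' hd h.ha h.haV hy hyV, h1]
  · rw [h.dl_const hp' hd h.Ub h.Vb hy hyV, h2]
  · rw [h.dl_const hp' hd h.Uc h.Vc hy hyV, h3]

/-- the value of an element of `W₀` -/
theorem W0_val {x : G} (hx : x ∈ h.toNTri.W0) {p' y : G} (hp' : Pt V p') (hy : y ∈ U p') (hyV : y ∉ V) :
    dl x y = dl x a := by
  obtain ⟨-, v, -, hv⟩ := hx
  rw [hv p' hp' y hy hyV, hv p h.t.hp a h.ha h.haV]

theorem Eb {e : G} (he : e ∈ EE V g) : dl e (bb g a) = g * dl e a * g⁻¹ := by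
  rw [← dl_conj]
  have h1 : g * e * g⁻¹ = e := by rw [← (mem_EE.mp he).2, mul_inv_cancel_right]
  rw [h1]; rfl

theorem Ec {e : G} (he : e ∈ EE V g) : dl e (cc g a) = g * (g * dl e a * g⁻¹) * g⁻¹ := by
  rw [← h.Eb he, ← dl_conj]
  have h1 : g * e * g⁻¹ = e := by rw [← (mem_EE.mp he).2, mul_inv_cancel_right]
  rw [h1]; rfl

/-- conjugation by `g` on the points -/
theorem E_dl {e : G} (he : e ∈ EE V g) :
    (dl e a = 1 → dl e (bb g a) = 1 ∧ dl e (cc g a) = 1) ∧ (dl e a = p → dl e (bb g a) = q ∧ dl e (cc g a) = r) ∧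
    (dl e a = q → dl e (bb g a) = r ∧ dl e (cc g a) = p) ∧ (dl e a = r → dl e (bb g a) = p ∧ dl e (cc g a) = q) := by
  rw [h.Eb he, h.Ec he]
  refine ⟨fun e1 => ?_, fun e1 => ?_, fun e1 => ?_, fun e1 => ?_⟩ <;> rw [e1]
  · simp
  · rw [h.gp, h.gq]; exact ⟨rfl, rfl⟩
  · rw [h.gq, h.gr]; exact ⟨rfl, rfl⟩
  · rw [h.gr, h.gp]; exact ⟨rfl, rfl⟩

section Fin

variable [Finite G]

/-- elements of `C_G(V)` commuting with `a`, `b`, `c` -/
theorem mem_V_of_dl {d : G} (hd : d ∈ centralizer (V : Set G)) (h1 : dl d a = 1) (h2 : dl d (bb g a) = 1)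
    (h3 : dl d (cc g a) = 1) : d ∈ V := by
  rw [← h.cent_W]
  refine mem_centralizer_iff.mpr fun w hw => ?_
  obtain ⟨x1, x2, x3, v, e1, e2, e3, hv, rfl⟩ := h.exists_form h.t h.ha h.haV h.Ub h.Vb h.Uc h.Vc hw
  have c1 : Commute d x1 := by
    rcases e1 with rfl | rfl
    · exact Commute.one_right d
    · exact h.dl_eq_one.mp h1
  have c2 : Commute d x2 := by
    rcases e2 with rfl | rfl
    · exact Commute.one_right d
    · exact h.dl_eq_one.mp h2
  have c3 : Commute d x3 := by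
    rcases e3 with rfl | rfl
    · exact Commute.one_right d
    · exact h.dl_eq_one.mp h3
  have cv : Commute d v := (h.vcomm hv hd).symm
  exact (cv.mul_right ((c1.mul_right c2).mul_right c3)).symm

theorem exists_V_of_dl {d d' : G} (hd : d ∈ centralizer (V : Set G)) (hd' : d' ∈ centralizer (V : Set G))
    (h1 : dl d a = dl d' a) (h2 : dl d (bb g a) = dl d' (bb g a)) (h3 : dl d (cc g a) = dl d' (cc g a)) :
    ∃ v ∈ V, d = v * d' := by
  have hi := inv_mem hd'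
  have hone : ∀ y, dl (1 : G) y = 1 := fun y => h.dl_one y
  refine ⟨d * d'⁻¹, h.mem_V_of_dl (mul_mem hd hi) ?_ ?_ ?_, by group⟩
  · rw [h.dmul_a hd hi, h1, ← h.dmul_a hd' hi, mul_inv_cancel, hone]
  · rw [h.dmul_b hd hi, h2, ← h.dmul_b hd' hi, mul_inv_cancel, hone]
  · rw [h.dmul_c hd hi, h3, ← h.dmul_c hd' hi, mul_inv_cancel, hone]

theorem E_inj {e : G} (he : e ∈ EE V g) (h1 : dl e a = 1) : e = 1 := by
  have h2 := (h.E_dl he).1 h1
  have h3 := h.mem_V_of_dl (mem_EE.mp he).1 h1 h2.1 h2.2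
  exact h.V_fix h3 (by rw [← (mem_EE.mp he).2, mul_inv_cancel_right])

theorem E_inj' {e e' : G} (he : e ∈ EE V g) (he' : e' ∈ EE V g) (h1 : dl e a = dl e' a) : e = e' := by
  have h2 : e * e'⁻¹ ∈ EE V g := mul_mem he (inv_mem he')
  have h3 : dl (e * e'⁻¹) a = 1 := by
    rw [h.dmul_a (mem_EE.mp he).1 (inv_mem (mem_EE.mp he').1), h1,
      ← h.dmul_a (mem_EE.mp he').1 (inv_mem (mem_EE.mp he').1), mul_inv_cancel, h.dl_one]
  exact mul_inv_eq_one.mp (h.E_inj h2 h3)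

theorem E_sq {e : G} (he : e ∈ EE V g) : e * e = 1 := by
  refine h.E_inj (mul_mem he he) ?_
  rw [h.dmul_a (mem_EE.mp he).1 (mem_EE.mp he).1]
  exact h.sqV _ (h.dl_mem h.t.hp h.ha (mem_EE.mp he).1)

/-- `W₀ ∩ E = 1` -/
theorem W0_inf_E {x : G} (hx : x ∈ h.toNTri.W0) (hE : x ∈ EE V g) : x = 1 := by
  refine h.E_inj hE (h.V_fix (h.dl_mem h.t.hp h.ha (mem_EE.mp hE).1) ?_)
  rw [← h.Eb hE, h.W0_val hx h.t.hq h.Ub h.Vb]

/-- the involution `u` -/
theorem u_mem : q * (a * bb g a * cc g a) ∈ WW V U :=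
  mul_mem (h.V_le_W h.t.hp h.t.hq.1) (mul_mem (mul_mem h.Wa h.Wb) h.Wc)

theorem dl_prod {v x1 x2 x3 y p' : G} (hv : v ∈ V) (h1 : x1 ∈ centralizer (V : Set G))
    (h2 : x2 ∈ centralizer (V : Set G)) (h3 : x3 ∈ centralizer (V : Set G)) (hp' : Pt V p') (hy : y ∈ U p') :
    dl (v * (x1 * x2 * x3)) y = dl x1 y * dl x2 y * dl x3 y := by
  rw [h.dl_mul hp' hy (h.V_le_centV hv) (mul_mem (mul_mem h1 h2) h3), h.dl_V hp' hy hv, one_mul,
    h.dl_mul hp' hy (mul_mem h1 h2) h3, h.dl_mul hp' hy h1 h2]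

theorem u_dl : dl (q * (a * bb g a * cc g a)) a = p ∧ dl (q * (a * bb g a * cc g a)) (bb g a) = q ∧
    dl (q * (a * bb g a * cc g a)) (cc g a) = r := by
  refine ⟨?_, ?_, ?_⟩
  · rw [h.dl_prod h.t.hq.1 h.Da h.Db h.Dc h.t.hp h.ha, h.dl_self, h.ba, h.ca, one_mul, h.mrq]
  · rw [h.dl_prod h.t.hq.1 h.Da h.Db h.Dc h.t.hq h.Ub, h.dl_self, h.ab, h.cb, mul_one, h.mrp]
  · rw [h.dl_prod h.t.hq.1 h.Da h.Db h.Dc h.t.hr h.Uc, h.dl_self, h.ac, h.bc, mul_one, h.mqp]

theorem u_E : q * (a * bb g a * cc g a) ∈ EE V g := by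
  refine mem_EE.mpr ⟨h.W_le_centV h.u_mem, ?_⟩
  have hq := h.t.hq.1
  have hca : cc g a * a = q * (a * cc g a) := h.swap' (h.rot (h.rot h.t)) h.Uc h.Vc h.ha h.haV
  have hba : bb g a * a = r * (a * bb g a) := h.swap' (h.swp h.t) h.Ub h.Vb h.ha h.haV
  have e1 : g * (q * (a * bb g a * cc g a)) * g⁻¹ = q * (a * bb g a * cc g a) := by
    calc g * (q * (a * bb g a * cc g a)) * g⁻¹ =
          (g * q * g⁻¹) * ((g * a * g⁻¹) * (g * bb g a * g⁻¹) * (g * cc g a * g⁻¹)) := by group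
      _ = r * (bb g a * (cc g a * a)) := by rw [h.gq, h.gb, h.gc]; unfold bb; group
      _ = r * (bb g a * q) * a * cc g a := by rw [hca]; group
      _ = r * q * (bb g a * a) * cc g a := by rw [← h.vcomm hq h.Db]; group
      _ = (r * q * r) * (a * bb g a * cc g a) := by rw [hba]; group
      _ = q * (a * bb g a * cc g a) := by rw [h.mrq, h.mpr]
  rw [mul_inv_eq_iff_eq_mul] at e1
  exact e1.symm

theorem u_ne : q * (a * bb g a * cc g a) ≠ 1 := by
  intro e
  have h1 := h.u_dl.1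
  rw [e, h.dl_one] at h1
  exact h.t.hp.2 h1.symm

/-- `W = W₀ ∪ W₀ u` -/
theorem W_cases {x : G} (hx : x ∈ WW V U) :
    x ∈ h.toNTri.W0 ∨ x * (q * (a * bb g a * cc g a)) ∈ h.toNTri.W0 := by
  obtain ⟨x1, x2, x3, v, e1, e2, e3, hv, rfl⟩ := h.exists_form h.t h.ha h.haV h.Ub h.Vb h.Uc h.Vc hx
  obtain ⟨u1, u2, u3⟩ := h.u_dl
  have hu := h.u_mem
  have hone : ∀ y, dl (1 : G) y = 1 := fun y => h.dl_one y
  have hslf : ∀ y : G, dl y y = 1 := fun y => h.dl_self y
  have o : ∀ {x y : G}, (x = 1 ∨ x = y) → y ∈ centralizer (V : Set G) → x ∈ centralizer (V : Set G) := by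
    rintro x y (rfl | rfl) hy
    · exact one_mem _
    · exact hy
  have d1 := o e1 h.Da
  have d2 := o e2 h.Db
  have d3 := o e3 h.Dc
  have f1 := h.dl_prod hv d1 d2 d3 h.t.hp h.ha
  have f2 := h.dl_prod hv d1 d2 d3 h.t.hq h.Ub
  have f3 := h.dl_prod hv d1 d2 d3 h.t.hr h.Uc
  have g1 := h.dmul_a (h.W_le_centV hx) (h.W_le_centV hu)
  have g2 := h.dmul_b (h.W_le_centV hx) (h.W_le_centV hu)
  have g3 := h.dmul_c (h.W_le_centV hx) (h.W_le_centV hu)
  rw [f1, u1] at g1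
  rw [f2, u2] at g2
  rw [f3, u3] at g3
  have T := And.intro h.ba (And.intro h.ca (And.intro h.ab (And.intro h.cb (And.intro h.ac h.bc))))
  obtain ⟨t1, t2, t3, t4, t5, t6⟩ := T
  rcases e1 with rfl | rfl <;> rcases e2 with rfl | rfl <;> rcases e3 with rfl | rfl <;>
    simp only [hone, hslf, one_mul, mul_one, t1, t2, t3, t4, t5, t6, h.mpq, h.mqp, h.mqr, h.mrq, h.mrp, h.mpr,
      h.mpp, h.mqq, h.mrr] at f1 f2 f3 g1 g2 g3
  all_goals first
    | (left; exact h.mem_W0' (v := 1) hx (one_mem _) (by simpa only [one_mul, mul_one] using f1)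
        (by simpa only [one_mul, mul_one] using f2) (by simpa only [one_mul, mul_one] using f3))
    | (right; exact h.mem_W0' (v := 1) (mul_mem hx hu) (one_mem _) (by simpa only [one_mul, mul_one] using g1)
        (by simpa only [one_mul, mul_one] using g2) (by simpa only [one_mul, mul_one] using g3))
    | (left; exact h.mem_W0' (v := p) hx h.t.hp.1 (by simpa only [one_mul, mul_one] using f1)
        (by simpa only [one_mul, mul_one] using f2) (by simpa only [one_mul, mul_one] using f3))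
    | (right; exact h.mem_W0' (v := p) (mul_mem hx hu) h.t.hp.1 (by simpa only [one_mul, mul_one] using g1)
        (by simpa only [one_mul, mul_one] using g2) (by simpa only [one_mul, mul_one] using g3))
    | (left; exact h.mem_W0' (v := q) hx h.t.hq.1 (by simpa only [one_mul, mul_one] using f1)
        (by simpa only [one_mul, mul_one] using f2) (by simpa only [one_mul, mul_one] using f3))
    | (right; exact h.mem_W0' (v := q) (mul_mem hx hu) h.t.hq.1 (by simpa only [one_mul, mul_one] using g1)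
        (by simpa only [one_mul, mul_one] using g2) (by simpa only [one_mul, mul_one] using g3))
    | (left; exact h.mem_W0' (v := r) hx h.t.hr.1 (by simpa only [one_mul, mul_one] using f1)
        (by simpa only [one_mul, mul_one] using f2) (by simpa only [one_mul, mul_one] using f3))
    | (right; exact h.mem_W0' (v := r) (mul_mem hx hu) h.t.hr.1 (by simpa only [one_mul, mul_one] using g1)
        (by simpa only [one_mul, mul_one] using g2) (by simpa only [one_mul, mul_one] using g3))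

/-- `C_G(V) = W₀ E` -/
theorem exists_W0_E {d : G} (hd : d ∈ centralizer (V : Set G)) : ∃ w ∈ h.toNTri.W0, ∃ e ∈ EE V g, d = w * e := by
  obtain ⟨w, hw, c, hc, rfl⟩ := h.exists_mul_cent hd
  rcases h.W_cases hw with h1 | h1
  · exact ⟨w, h1, c, hc, rfl⟩
  · refine ⟨_, h1, (q * (a * bb g a * cc g a))⁻¹ * c, mul_mem (inv_mem h.u_E) hc, by group⟩

/-- the nontrivial cosets of `V` in `W₀` -/
theorem W0_form {x : G} (hx : x ∈ h.toNTri.W0) : x ∈ V ∨ ∃ p' q' r', Tr V p' q' r' ∧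
    (∃ y ∈ U p', y ∉ V ∧ ∃ z ∈ U q', z ∉ V ∧ x = y * z) ∧ dl x a = r' := by
  have hxD := h.W_le_centV hx.1
  have v2 := h.W0_val hx h.t.hq h.Ub h.Vb
  have v3 := h.W0_val hx h.t.hr h.Uc h.Vc
  have hslf : ∀ y : G, dl y y = 1 := fun y => h.dl_self y
  have key : ∀ {p' q' r' y z : G}, Tr V p' q' r' → y ∈ U p' → y ∉ V → z ∈ U q' → z ∉ V →
      dl x a = r' → dl (y * z) a = r' → dl (y * z) (bb g a) = r' → dl (y * z) (cc g a) = r' →
      x ∈ V ∨ ∃ p' q' r', Tr V p' q' r' ∧ (∃ y ∈ U p', y ∉ V ∧ ∃ z ∈ U q', z ∉ V ∧ x = y * z) ∧ dl x a = r' := by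
    intro p' q' r' y z t' hy hyV hz hzV e1 e2 e3 e4
    obtain ⟨v, hv, e⟩ := h.exists_V_of_dl hxD (mul_mem (h.U_le_centV t'.hp hy) (h.U_le_centV t'.hq hz))
      (e1.trans e2.symm) ((v2.trans e1).trans e3.symm) ((v3.trans e1).trans e4.symm)
    refine Or.inr ⟨p', q', r', t', ⟨v * y, mul_mem (h.V_le p' t'.hp hv) hy, fun hc => hyV ?_, z, hz, hzV, ?_⟩, e1⟩
    · have := mul_mem (inv_mem hv) hc
      rwa [inv_mul_cancel_left] at this
    · rw [e]; group
  rcases h.mem_V' h.t (h.dl_mem h.t.hp h.ha hxD) with e | e | e | e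
  · left
    exact h.mem_V_of_dl hxD e (v2.trans e) (v3.trans e)
  · refine key (h.rot h.t) h.Ub h.Vb h.Uc h.Vc e ?_ ?_ ?_
    · rw [h.dmul_a h.Db h.Dc, h.ba, h.ca, h.mrq]
    · rw [h.dmul_b h.Db h.Dc, hslf, h.cb, one_mul]
    · rw [h.dmul_c h.Db h.Dc, hslf, h.bc, mul_one]
  · refine key (h.rot (h.rot h.t)) h.Uc h.Vc h.ha h.haV e ?_ ?_ ?_
    · rw [h.dmul_a h.Dc h.Da, hslf, h.ca, mul_one]
    · rw [h.dmul_b h.Dc h.Da, h.cb, h.ab, h.mpr]
    · rw [h.dmul_c h.Dc h.Da, hslf, h.ac, one_mul]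
  · refine key h.t h.ha h.haV h.Ub h.Vb e ?_ ?_ ?_
    · rw [h.dmul_a h.Da h.Db, hslf, h.ba, one_mul]
    · rw [h.dmul_b h.Da h.Db, hslf, h.ab, mul_one]
    · rw [h.dmul_c h.Da h.Db, h.ac, h.bc, h.mqp]

/-- squares in `W₀` -/
theorem W0_sq {x : G} (hx : x ∈ h.toNTri.W0) : x * x = dl x a := by
  rcases h.W0_form hx with h1 | ⟨p', q', r', t', ⟨y, hy, hyV, z, hz, hzV, rfl⟩, e⟩
  · rw [h.sqV x h1, h.dl_V h.t.hp h.ha h1]
  · rw [e, h.e_sq (h.rot (h.rot t')) hy hyV hz hzV]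

/-- `W₀` is abelian -/
theorem W0_comm {x y : G} (hx : x ∈ h.toNTri.W0) (hy : y ∈ h.toNTri.W0) : x * y = y * x := by
  have hxD := h.W_le_centV hx.1
  rcases h.W0_form hy with h1 | ⟨p', q', r', t', ⟨w, hw, hwV, z, hz, hzV, rfl⟩, -⟩
  · exact (h.vcomm h1 hxD).symm
  · have e1 := h.W0_val hx t'.hp hw hwV
    have e2 := h.W0_val hx t'.hq hz hzV
    have hv := h.dl_mem h.t.hp h.ha hxD
    have hvw := h.vcomm hv (h.U_le_centV t'.hp hw)
    have hvv := h.sqV _ hv
    have e3 : x * (w * z) * x⁻¹ = w * z := by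
      calc x * (w * z) * x⁻¹ = (x * w * x⁻¹) * (x * z * x⁻¹) := by group
        _ = (dl x w * w) * (dl x z * z) := by rw [conj_eq_dl, conj_eq_dl]
        _ = (dl x a * w) * (dl x a * z) := by rw [e1, e2]
        _ = (w * dl x a) * (dl x a * z) := by rw [hvw]
        _ = w * (dl x a * dl x a) * z := by group
        _ = w * z := by rw [hvv, mul_one]
    exact mul_inv_eq_iff_eq_mul.mp e3

/-- an element with values `p, q, r` on `U_p, U_q, U_r` inverts `W₀` -/
theorem W0_conj_u {x : G} (hx : x ∈ h.toNTri.W0) :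
    (q * (a * bb g a * cc g a)) * x * (q * (a * bb g a * cc g a))⁻¹ = x⁻¹ := by
  obtain ⟨u1, u2, u3⟩ := h.u_dl
  have hu := h.W_le_centV h.u_mem
  set u := q * (a * bb g a * cc g a) with hudef
  have hxx := h.W0_sq hx
  have hvd := h.dl_mem h.t.hp h.ha (h.W_le_centV hx.1)
  have hinv : x⁻¹ = dl x a * x := by
    have h4 : (dl x a * x) * x = 1 := by rw [mul_assoc, hxx, h.sqV _ hvd]
    exact (eq_inv_of_mul_eq_one_left h4).symm
  have uv : ∀ p', Pt V p' → ∀ y ∈ U p', y ∉ V → dl u y = p' := by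
    intro p' hp' y hy hyV
    rcases h.mem_V' h.t hp'.1 with rfl | rfl | rfl | rfl
    · exact absurd rfl hp'.2
    · rw [h.dl_const hp' hu h.ha h.haV hy hyV, u1]
    · rw [h.dl_const hp' hu h.Ub h.Vb hy hyV, u2]
    · rw [h.dl_const hp' hu h.Uc h.Vc hy hyV, u3]
  rw [hinv]
  rcases h.W0_form hx with h1 | ⟨p', q', r', t', ⟨y, hy, hyV, z, hz, hzV, rfl⟩, e⟩
  · rw [h.dl_V h.t.hp h.ha h1, one_mul, h.fix_of_centV hu h1]
  · have hvy := h.vcomm t'.hq.1 (h.U_le_centV t'.hp hy)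
    calc u * (y * z) * u⁻¹ = (u * y * u⁻¹) * (u * z * u⁻¹) := by group
      _ = (p' * y) * (q' * z) := by rw [conj_eq_dl, conj_eq_dl, uv p' t'.hp y hy hyV, uv q' t'.hq z hz hzV]
      _ = p' * (y * q') * z := by group
      _ = p' * q' * (y * z) := by rw [← hvy]; group
      _ = dl (y * z) a * (y * z) := by rw [t'.eq, e]

/-- an involution of `N_G(V) ∩ C_G(p)` inverting `g` -/
theorem exists_s : ∃ s ∈ normalizer (V : Set G), s * p * s⁻¹ = p ∧ s * q * s⁻¹ = r ∧ s * r * s⁻¹ = q ∧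
    s * g * s⁻¹ = g⁻¹ ∧ s * s = 1 := by
  obtain ⟨x, hx, -, hxp, hxq, hxr, hxx⟩ := h.exists_h h.t
  have hxN := hx.1
  obtain ⟨s, hsN, sp, sq, sr, sg⟩ := h.exists_s0
  have hsp' : s⁻¹ * p * s = p := by
    calc s⁻¹ * p * s = s⁻¹ * (s * p * s⁻¹) * s := by rw [sp]
      _ = p := by group
  have hsq' : s⁻¹ * q * s = r := by
    calc s⁻¹ * q * s = s⁻¹ * (s * r * s⁻¹) * s := by rw [sr]
      _ = r := by group
  have hd : x * s⁻¹ ∈ centralizer (V : Set G) := by
    refine h.mem_centV_of_fix (mul_mem hxN (inv_mem hsN)) ?_ ?_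
    · have e : x * s⁻¹ * p * (x * s⁻¹)⁻¹ = x * (s⁻¹ * p * s) * x⁻¹ := by group
      rw [e, hsp', hxp]
    · have e : x * s⁻¹ * q * (x * s⁻¹)⁻¹ = x * (s⁻¹ * q * s) * x⁻¹ := by group
      rw [e, hsq', hxr]
  obtain ⟨w, hw, e, he, hwe⟩ := h.exists_W0_E hd
  have heD := (mem_EE.mp he).1
  have heg := (mem_EE.mp he).2
  have hs1 : e * s = w⁻¹ * x := by
    have : x = w * e * s := by rw [← hwe]; group
    rw [this]; group
  have efix : ∀ v ∈ V, e * v * e⁻¹ = v := fun v hv => h.fix_of_centV heD hv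
  have sact : ∀ v : G, e * s * v * (e * s)⁻¹ = e * (s * v * s⁻¹) * e⁻¹ := fun v => by group
  have tp : e * s * p * (e * s)⁻¹ = p := by rw [sact, sp, efix p h.t.hp.1]
  have tq : e * s * q * (e * s)⁻¹ = r := by rw [sact, sq, efix r h.t.hr.1]
  have tr : e * s * r * (e * s)⁻¹ = q := by rw [sact, sr, efix q h.t.hq.1]
  have tg : e * s * g * (e * s)⁻¹ = g⁻¹ := by
    rw [sact, sg]
    have : Commute e g⁻¹ := (show Commute e g from heg).inv_right
    rw [this.eq, mul_inv_cancel_right]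
  have hN : e * s ∈ normalizer (V : Set G) := mul_mem (h.centV_le_norm heD) hsN
  refine ⟨e * s, hN, tp, tq, tr, tg, ?_⟩
  refine h.W0_inf_E ?_ (mem_EE.mpr ⟨?_, ?_⟩)
  · rw [hs1]
    have e1 : w⁻¹ * x * (w⁻¹ * x) = w⁻¹ * (x * w⁻¹ * x⁻¹) * (x * x) := by group
    rw [e1, hxx]
    exact mul_mem (mul_mem (inv_mem hw) (conj_mem_of_normalizer h.norm_W0 hxN (inv_mem hw)))
      (h.V_le_W0 h.t.hp h.t.hp.1)
  · refine h.mem_centV_of_fix (mul_mem hN hN) ?_ ?_
    · have e1 : e * s * (e * s) * p * (e * s * (e * s))⁻¹ = (e * s) * ((e * s) * p * (e * s)⁻¹) * (e * s)⁻¹ := by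
        group
      rw [e1, tp, tp]
    · have e1 : e * s * (e * s) * q * (e * s * (e * s))⁻¹ = (e * s) * ((e * s) * q * (e * s)⁻¹) * (e * s)⁻¹ := by
        group
      rw [e1, tq, tr]
  · have e1 : e * s * (e * s) * g * (e * s * (e * s))⁻¹ = g := by
      calc e * s * (e * s) * g * (e * s * (e * s))⁻¹ = (e * s) * ((e * s) * g * (e * s)⁻¹) * (e * s)⁻¹ := by group
        _ = (e * s) * g⁻¹ * (e * s)⁻¹ := by rw [tg]
        _ = ((e * s) * g * (e * s)⁻¹)⁻¹ := by group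
        _ = g := by rw [tg, inv_inv]
    exact mul_inv_eq_iff_eq_mul.mp e1

/-! ### cardinalities -/

/-- `E → V` -/
def phi : EE V g →* V where
  toFun e := ⟨dl e.1 a, h.dl_mem h.t.hp h.ha (mem_EE.mp e.2).1⟩
  map_one' := Subtype.ext (h.dl_one a)
  map_mul' e e' := Subtype.ext (h.dmul_a (mem_EE.mp e.2).1 (mem_EE.mp e'.2).1)

theorem phi_inj : Function.Injective (phi h) := fun e e' he =>
  Subtype.ext (h.E_inj' e.2 e'.2 (congrArg Subtype.val he))

theorem card_E : Nat.card (EE V g) = 2 ∨ Nat.card (EE V g) = 4 := by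
  have h1 := Subgroup.card_dvd_of_injective (phi h) (phi_inj h)
  rw [h.cardV] at h1
  have h2 : Nat.card (EE V g) ≠ 1 := by
    intro h3
    have h4 : EE V g = ⊥ := Subgroup.eq_bot_of_card_eq _ h3
    have h5 := h.u_E
    rw [h4, mem_bot] at h5
    exact h.u_ne h5
  have h3 : Nat.card (EE V g) ≤ 4 := Nat.le_of_dvd (by norm_num) h1
  have h4 : 0 < Nat.card (EE V g) := Nat.card_pos
  interval_cases hn : Nat.card (EE V g)
  · exact absurd rfl h2
  · exact Or.inl rfl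
  · omega
  · exact Or.inr rfl

theorem E_two (h2 : Nat.card (EE V g) = 2) {e : G} (he : e ∈ EE V g) :
    e = 1 ∨ e = q * (a * bb g a * cc g a) := by
  have hle : zpowers (q * (a * bb g a * cc g a)) ≤ EE V g := by rw [zpowers_le]; exact h.u_E
  have hc : Nat.card (zpowers (q * (a * bb g a * cc g a))) = 2 := by
    rw [Nat.card_zpowers]
    exact orderOf_eq_prime (by rw [pow_two]; exact h.E_sq h.u_E) h.u_ne
  have heq := Subgroup.eq_of_le_of_card_ge hle (by rw [h2, hc])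
  rw [← heq] at he
  exact (mem_zpowers_iff_of_mul_self (h.E_sq h.u_E)).mp he

theorem E_four (h4 : Nat.card (EE V g) = 4) : ∃ f ∈ EE V g, dl f a = q := by
  have hb : Function.Bijective (phi h) :=
    (Nat.bijective_iff_injective_and_card _).mpr ⟨phi_inj h, by rw [h4, h.cardV]⟩
  obtain ⟨f, hf⟩ := hb.2 ⟨q, h.t.hq.1⟩
  exact ⟨f.1, f.2, congrArg Subtype.val hf⟩

theorem E_four' {f e : G} (hf : f ∈ EE V g) (hfq : dl f a = q) (he : e ∈ EE V g) :
    e = 1 ∨ e = q * (a * bb g a * cc g a) ∨ e = f ∨ e = f * (q * (a * bb g a * cc g a)) := by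
  have hu := h.u_E
  have hu1 := h.u_dl.1
  rcases h.mem_V' h.t (h.dl_mem h.t.hp h.ha (mem_EE.mp he).1) with e1 | e1 | e1 | e1
  · exact Or.inl (h.E_inj he e1)
  · exact Or.inr (Or.inl (h.E_inj' he hu (e1.trans hu1.symm)))
  · exact Or.inr (Or.inr (Or.inl (h.E_inj' he hf (e1.trans hfq.symm))))
  · refine Or.inr (Or.inr (Or.inr (h.E_inj' he (mul_mem hf hu) ?_)))
    rw [h.dmul_a (mem_EE.mp hf).1 (mem_EE.mp hu).1, hfq, hu1, e1, h.mqp]

/-- `W₀ → V` -/
def psi : h.toNTri.W0 →* V where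
  toFun e := ⟨dl e.1 a, h.dl_mem h.t.hp h.ha (h.W_le_centV e.2.1)⟩
  map_one' := Subtype.ext (h.dl_one a)
  map_mul' e e' := Subtype.ext (h.dmul_a (h.W_le_centV e.2.1) (h.W_le_centV e'.2.1))

theorem ab_W0 : a * bb g a ∈ h.toNTri.W0 ∧ dl (a * bb g a) a = r := by
  have e1 : dl (a * bb g a) a = r := by rw [h.dmul_a h.Da h.Db, h.dl_self, h.ba, one_mul]
  refine ⟨h.mem_W0' (v := r) (mul_mem h.Wa h.Wb) h.t.hr.1 e1 ?_ ?_, e1⟩
  · rw [h.dmul_b h.Da h.Db, h.dl_self, h.ab, mul_one]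
  · rw [h.dmul_c h.Da h.Db, h.ac, h.bc, h.mqp]

theorem ca_W0 : cc g a * a ∈ h.toNTri.W0 ∧ dl (cc g a * a) a = q := by
  have e1 : dl (cc g a * a) a = q := by rw [h.dmul_a h.Dc h.Da, h.dl_self, h.ca, mul_one]
  refine ⟨h.mem_W0' (v := q) (mul_mem h.Wc h.Wa) h.t.hq.1 e1 ?_ ?_, e1⟩
  · rw [h.dmul_b h.Dc h.Da, h.cb, h.ab, h.mpr]
  · rw [h.dmul_c h.Dc h.Da, h.dl_self, h.ac, one_mul]

theorem card_W0 : Nat.card (h.toNTri.W0) = 16 := by
  have hs : Function.Surjective (psi h) := by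
    rintro ⟨v, hv⟩
    rcases h.mem_V' h.t hv with rfl | rfl | rfl | rfl
    · exact ⟨1, Subtype.ext (h.dl_one a)⟩
    · refine ⟨⟨_, mul_mem h.ca_W0.1 h.ab_W0.1⟩, Subtype.ext ?_⟩
      change dl (cc g a * a * (a * bb g a)) a = _
      rw [h.dmul_a (h.W_le_centV h.ca_W0.1.1) (h.W_le_centV h.ab_W0.1.1), h.ca_W0.2, h.ab_W0.2, h.mqr]
    · exact ⟨⟨_, h.ca_W0.1⟩, Subtype.ext h.ca_W0.2⟩
    · exact ⟨⟨_, h.ab_W0.1⟩, Subtype.ext h.ab_W0.2⟩
  have hk : (psi h).ker = V.subgroupOf (h.toNTri.W0) := by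
    ext x
    rw [MonoidHom.mem_ker, mem_subgroupOf]
    constructor
    · intro e
      have e1 : dl x.1 a = 1 := congrArg Subtype.val e
      have hx := x.2
      exact h.mem_V_of_dl (h.W_le_centV hx.1) e1 ((h.W0_val hx h.t.hq h.Ub h.Vb).trans e1)
        ((h.W0_val hx h.t.hr h.Uc h.Vc).trans e1)
    · intro e
      exact Subtype.ext (h.dl_V h.t.hp h.ha e)
  have hk4 : Nat.card (psi h).ker = 4 := by
    rw [hk, ← h.cardV]
    exact Nat.card_congr (subgroupOfEquivOfLe (h.V_le_W0 h.t.hp)).toEquiv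
  have h1 := Subgroup.card_eq_card_quotient_mul_card_subgroup (psi h).ker
  rw [hk4, Nat.card_congr (QuotientGroup.quotientKerEquivOfSurjective _ hs).toEquiv, h.cardV] at h1
  exact h1

theorem card_D : Nat.card (centralizer (V : Set G)) = 16 * Nat.card (EE V g) := by
  have hE : EE V g ≤ centralizer (V : Set G) := inf_le_left
  have hW : h.toNTri.W0 ≤ centralizer (V : Set G) := h.W0_le.trans h.W_le_centV
  have h1 : EE V g ⊔ h.toNTri.W0 = centralizer (V : Set G) := by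
    apply le_antisymm (sup_le hE hW)
    intro d hd
    obtain ⟨w, hw, e, he, rfl⟩ := h.exists_W0_E hd
    exact mul_mem ((le_sup_right : _ ≤ EE V g ⊔ h.toNTri.W0) hw) ((le_sup_left : _ ≤ EE V g ⊔ h.toNTri.W0) he)
  have h2 : EE V g ⊓ h.toNTri.W0 = ⊥ := by
    rw [eq_bot_iff]
    rintro x ⟨hx1, hx2⟩
    exact mem_bot.mpr (h.W0_inf_E hx2 hx1)
  have h3 := card_sup_mul_card_inf (H := EE V g) (N := h.toNTri.W0)
    (hE.trans (h.centV_le_norm.trans h.norm_W0))
  rw [h1, h2, Subgroup.card_bot, mul_one, h.card_W0] at h3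
  rw [h3, mul_comm]

/-- the subgroup `S = N_G(V) ∩ C_G(p)` -/
theorem S_le {s : G} (hsN : s ∈ normalizer (V : Set G)) (hsp : s * p * s⁻¹ = p) (hsr : s * r * s⁻¹ = q)
    {X : Subgroup G} (hD : centralizer (V : Set G) ≤ X) (hs : s ∈ X) :
    normalizer (V : Set G) ⊓ centralizer ({p} : Set G) ≤ X := by
  rintro n ⟨hnN, hnp⟩
  have hnp' : n * p * n⁻¹ = p := by rw [mem_centralizer_singleton_iff.mp hnp, mul_inv_cancel_right]
  rcases h.fix_or_swap h.t hnN hnp' with ⟨h1, -, -⟩ | ⟨h1, h2⟩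
  · exact hD h1
  · have hsp' : s⁻¹ * p * s = p := by
      calc s⁻¹ * p * s = s⁻¹ * (s * p * s⁻¹) * s := by rw [hsp]
        _ = p := by group
    have hsq' : s⁻¹ * q * s = r := by
      calc s⁻¹ * q * s = s⁻¹ * (s * r * s⁻¹) * s := by rw [hsr]
        _ = r := by group
    have h3 : n * s⁻¹ ∈ centralizer (V : Set G) := by
      refine h.mem_centV_of_fix (mul_mem hnN (inv_mem hsN)) ?_ ?_
      · have e : n * s⁻¹ * p * (n * s⁻¹)⁻¹ = n * (s⁻¹ * p * s) * n⁻¹ := by group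
        rw [e, hsp', hnp']
      · have e : n * s⁻¹ * q * (n * s⁻¹)⁻¹ = n * (s⁻¹ * q * s) * n⁻¹ := by group
        rw [e, hsq', h2]
    have e : n = (n * s⁻¹) * s := by group
    rw [e]
    exact mul_mem (hD h3) hs

theorem D_le_S : centralizer (V : Set G) ≤ normalizer (V : Set G) ⊓ centralizer ({p} : Set G) :=
  le_inf h.centV_le_norm fun _ hd => mem_centralizer_singleton_iff.mpr (h.vcomm h.t.hp.1 hd).symm

theorem card_S : Nat.card (normalizer (V : Set G) ⊓ centralizer ({p} : Set G) : Subgroup G) =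
    32 * Nat.card (EE V g) := by
  obtain ⟨s, hsN, sp, sq, sr, -, ss⟩ := h.exists_s
  have hsS : s ∈ normalizer (V : Set G) ⊓ centralizer ({p} : Set G) :=
    mem_inf.mpr ⟨hsN, mem_centralizer_singleton_iff.mpr (mul_inv_eq_iff_eq_mul.mp sp)⟩
  have hsD : s ∉ centralizer (V : Set G) := by
    intro e
    have h1 := h.fix_of_centV e h.t.hq.1
    rw [h1] at sq
    exact h.t.nqr sq
  have hs1 : s ≠ 1 := fun e => hsD (by rw [e]; exact one_mem _)
  have h1 : zpowers s ⊔ centralizer (V : Set G) = normalizer (V : Set G) ⊓ centralizer ({p} : Set G) := by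
    apply le_antisymm (sup_le (by rw [zpowers_le]; exact hsS) h.D_le_S)
    exact h.S_le hsN sp sr le_sup_right ((le_sup_left : zpowers s ≤ _) (mem_zpowers s))
  have h2 : zpowers s ⊓ centralizer (V : Set G) = ⊥ := by
    rw [eq_bot_iff]
    rintro x ⟨hx1, hx2⟩
    rcases (mem_zpowers_iff_of_mul_self ss).mp hx1 with e | e
    · exact mem_bot.mpr e
    · rw [e] at hx2; exact absurd hx2 hsD
  have h3 := card_sup_mul_card_inf (H := zpowers s) (N := centralizer (V : Set G))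
    (by rw [zpowers_le]; exact h.centV_norm hsN)
  have h4 : Nat.card (zpowers s) = 2 := by
    rw [Nat.card_zpowers]; exact orderOf_eq_prime (by rw [pow_two]; exact ss) hs1
  rw [h1, h2, Subgroup.card_bot, mul_one, h4, h.card_D] at h3
  rw [h3]; ring

end Fin

end Fr

end Cfsg.Agent.Omega.NO3S.Fit.MTri

end

-- merged: Cfsg.Agent.Mrg.Omega.NO3S.Fit.MTri.End
section

section


/-!
# The natural block: `NTri` gives `Conf64` or `Conf128` with `P1 = N_G(V)`, `S = N_G(V) ∩ C_G(p)`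
-/

set_option autoImplicit false
set_option linter.unusedSectionVars false

namespace Cfsg.Agent.Omega.NO3S.Fit.MTri

open Subgroup Cfsg Cfsg.Agent.ZN Cfsg.Agent.MinSimple.Geo
open Cfsg.Agent.Classification.TitsFin.Tri (Pt kst cj_kst K Q)
open Cfsg.Agent.SectRankFour.C2.Defs (Conf64 Conf128)
open Cfsg.Agent.ZN.Block (conj_mem_of_normalizer conj_mem_of_normalizer' le_normalizer_of_forall
  mem_normalizer_of card_sup_mul_card_inf card_mul_relIndex' mul_mem_of_relIndex_two o2_le o2_conj o2_isPGroup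
  le_o2 le_normalizer_o2)

universe u

variable {G : Type u} [Group G] [Finite G]

namespace Fr

variable {V : Subgroup G} {U C : G → Subgroup G} {p q r g a : G} (h : Fr V U C p q r g a)

include h

/-- the standard generators -/
theorem exists_gens : ∃ s A B u : G, s ∈ normalizer (V : Set G) ∧ s * p * s⁻¹ = p ∧ s * r * s⁻¹ = q ∧
    s * s = 1 ∧ s * g * s⁻¹ = g⁻¹ ∧ A ∈ h.toNTri.W0 ∧ B ∈ h.toNTri.W0 ∧ dl A a = q ∧ dl B a = r ∧
    g * A * g⁻¹ = B ∧ g * B * g⁻¹ = A⁻¹ * B⁻¹ ∧ s * A * s⁻¹ = B ∧ s * B * s⁻¹ = A ∧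
    u = q * (a * bb g a * cc g a) ∧ s * u = u * s ∧
    (∀ f ∈ EE V g, dl f a = q → s * f * s⁻¹ = f * u) := by
  obtain ⟨s, hsN, sp, sq, sr, sg, ss⟩ := h.exists_s
  obtain ⟨y1, y2⟩ := h.ca_W0
  have hsa : s⁻¹ * a * s ∈ U p ∧ s⁻¹ * a * s ∉ V := by
    have hsN' : s⁻¹ ∈ normalizer (V : Set G) := inv_mem hsN
    have hsp' : s⁻¹ * p * s⁻¹⁻¹ = p := by
      calc s⁻¹ * p * s⁻¹⁻¹ = s⁻¹ * (s * p * s⁻¹) * s := by rw [sp, inv_inv]
        _ = p := by group
    have e1 := h.conj_U hsN' h.t.hp h.ha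
    have e2 := h.conj_notV hsN' h.haV
    rw [hsp'] at e1
    rw [inv_inv] at e1 e2
    exact ⟨e1, e2⟩
  -- values after conjugation with `s`
  have sval : ∀ d ∈ centralizer (V : Set G), dl (s * d * s⁻¹) a = s * dl d a * s⁻¹ := by
    intro d hd
    have e1 : a = s * (s⁻¹ * a * s) * s⁻¹ := by group
    conv_lhs => rw [e1]
    rw [dl_conj, h.dl_const h.t.hp hd h.ha h.haV hsa.1 hsa.2]
  set y := cc g a * a with hy
  have hyD := h.W_le_centV y1.1
  have sy : s * y * s⁻¹ ∈ h.toNTri.W0 := conj_mem_of_normalizer h.norm_W0 hsN y1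
  set A0 := y * (s * y * s⁻¹) with hA0
  have A0m : A0 ∈ h.toNTri.W0 := mul_mem y1 sy
  have sA0 : s * A0 * s⁻¹ = A0 := by
    calc s * A0 * s⁻¹ = (s * y * s⁻¹) * ((s * s) * y * (s * s)⁻¹) := by rw [hA0]; group
      _ = (s * y * s⁻¹) * y := by rw [ss]; group
      _ = A0 := by rw [hA0, h.W0_comm sy y1]
  have dA0 : dl A0 a = p := by
    rw [hA0, h.dmul_a hyD (h.W_le_centV sy.1), sval y hyD, y2, sq, h.mqr]
  have A1m : g * A0 * g⁻¹ ∈ h.toNTri.W0 := conj_mem_of_normalizer h.norm_W0 h.gN A0m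
  have A2m : g * (g * A0 * g⁻¹) * g⁻¹ ∈ h.toNTri.W0 := conj_mem_of_normalizer h.norm_W0 h.gN A1m
  have gval : ∀ x ∈ h.toNTri.W0, dl (g * x * g⁻¹) a = g * dl x a * g⁻¹ := by
    intro x hx
    have hx' : g * x * g⁻¹ ∈ h.toNTri.W0 := conj_mem_of_normalizer h.norm_W0 h.gN hx
    rw [← h.W0_val hx' h.t.hq h.Ub h.Vb]
    exact dl_conj g x a
  have dA1 : dl (g * A0 * g⁻¹) a = q := by rw [gval _ A0m, dA0, h.gp]
  have dA2 : dl (g * (g * A0 * g⁻¹) * g⁻¹) a = r := by rw [gval _ A1m, dA1, h.gq]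
  have sgi : s * g⁻¹ * s⁻¹ = g := by
    have : s * g⁻¹ * s⁻¹ = (s * g * s⁻¹)⁻¹ := by group
    rw [this, sg, inv_inv]
  have gkey : ∀ x : G, g⁻¹ * x * g⁻¹⁻¹ = g * (g * x * g⁻¹) * g⁻¹ := fun x => by
    have e : g * (g * x * g⁻¹) * g⁻¹ = (g * g) * x * (g * g)⁻¹ := by group
    rw [e, ← h.g_inv]
  have hprod : A0 * (g * A0 * g⁻¹) * (g * (g * A0 * g⁻¹) * g⁻¹) = 1 := by
    refine h.W0_inf_E (mul_mem (mul_mem A0m A1m) A2m) (mem_EE.mpr ⟨h.W_le_centV
      (mul_mem (mul_mem A0m A1m) A2m : _ ∈ h.toNTri.W0).1, ?_⟩)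
    have e1 : g * (A0 * (g * A0 * g⁻¹) * (g * (g * A0 * g⁻¹) * g⁻¹)) * g⁻¹ =
        A0 * (g * A0 * g⁻¹) * (g * (g * A0 * g⁻¹) * g⁻¹) := by
      calc g * (A0 * (g * A0 * g⁻¹) * (g * (g * A0 * g⁻¹) * g⁻¹)) * g⁻¹ =
            ((g * A0 * g⁻¹) * (g * (g * A0 * g⁻¹) * g⁻¹)) * (g * (g * (g * A0 * g⁻¹) * g⁻¹) * g⁻¹) := by group
        _ = ((g * A0 * g⁻¹) * (g * (g * A0 * g⁻¹) * g⁻¹)) * A0 := by rw [h.g3a A0]
        _ = A0 * ((g * A0 * g⁻¹) * (g * (g * A0 * g⁻¹) * g⁻¹)) := h.W0_comm (mul_mem A1m A2m) A0m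
        _ = A0 * (g * A0 * g⁻¹) * (g * (g * A0 * g⁻¹) * g⁻¹) := by group
    exact (mul_inv_eq_iff_eq_mul.mp e1).symm
  have hu := h.u_E
  have seE : ∀ e ∈ EE V g, s * e * s⁻¹ ∈ EE V g := by
    intro e he
    refine mem_EE.mpr ⟨conj_mem_of_normalizer h.centV_norm hsN (mem_EE.mp he).1, ?_⟩
    have h1 : Commute e g := (mem_EE.mp he).2
    have h2 := h1.inv_right
    have h3 : s * e * s⁻¹ * (s * g⁻¹ * s⁻¹) = s * g⁻¹ * s⁻¹ * (s * e * s⁻¹) := by
      calc s * e * s⁻¹ * (s * g⁻¹ * s⁻¹) = s * (e * g⁻¹) * s⁻¹ := by group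
        _ = s * (g⁻¹ * e) * s⁻¹ := by rw [h2.eq]
        _ = s * g⁻¹ * s⁻¹ * (s * e * s⁻¹) := by group
    rwa [sgi] at h3
  refine ⟨s, g * A0 * g⁻¹, g * (g * A0 * g⁻¹) * g⁻¹, _, hsN, sp, sr, ss, sg, A1m, A2m, dA1, dA2, rfl, ?_, ?_, ?_,
    rfl, ?_, ?_⟩
  · -- `g B g⁻¹ = A0 = A⁻¹ B⁻¹`
    rw [h.g3a A0]
    have e1 : A0 * ((g * A0 * g⁻¹) * (g * (g * A0 * g⁻¹) * g⁻¹)) = 1 := by rw [← mul_assoc]; exact hprod
    calc A0 = ((g * A0 * g⁻¹) * (g * (g * A0 * g⁻¹) * g⁻¹))⁻¹ := eq_inv_of_mul_eq_one_left e1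
      _ = ((g * (g * A0 * g⁻¹) * g⁻¹) * (g * A0 * g⁻¹))⁻¹ := by rw [h.W0_comm A1m A2m]
      _ = (g * A0 * g⁻¹)⁻¹ * (g * (g * A0 * g⁻¹) * g⁻¹)⁻¹ := mul_inv_rev _ _
  · calc s * (g * A0 * g⁻¹) * s⁻¹ = (s * g * s⁻¹) * (s * A0 * s⁻¹) * (s * g * s⁻¹)⁻¹ := by group
      _ = g⁻¹ * A0 * g⁻¹⁻¹ := by rw [sg, sA0]
      _ = g * (g * A0 * g⁻¹) * g⁻¹ := gkey A0
  · calc s * (g * (g * A0 * g⁻¹) * g⁻¹) * s⁻¹ = (s * g * s⁻¹) * ((s * g * s⁻¹) * (s * A0 * s⁻¹) *
          (s * g * s⁻¹)⁻¹) * (s * g * s⁻¹)⁻¹ := by group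
      _ = g⁻¹ * (g⁻¹ * A0 * g⁻¹⁻¹) * g⁻¹⁻¹ := by rw [sg, sA0]
      _ = g * (g * (g⁻¹ * A0 * g⁻¹⁻¹) * g⁻¹) * g⁻¹ := gkey _
      _ = g * A0 * g⁻¹ := by group
  · have e1 : s * (q * (a * bb g a * cc g a)) * s⁻¹ = q * (a * bb g a * cc g a) := by
      refine h.E_inj' (seE _ hu) hu ?_
      rw [sval _ (mem_EE.mp hu).1, h.u_dl.1, sp]
    exact mul_inv_eq_iff_eq_mul.mp e1
  · intro f hf hfq
    refine h.E_inj' (seE _ hf) (mul_mem hf hu) ?_
    rw [sval _ (mem_EE.mp hf).1, hfq, sq, h.dmul_a (mem_EE.mp hf).1 (mem_EE.mp hu).1, hfq, h.u_dl.1, h.mqp]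

/-- generation -/
theorem D_le_of {A B : G} (hA : A ∈ h.toNTri.W0) (hB : B ∈ h.toNTri.W0) (dA : dl A a = q) (dB : dl B a = r)
    {X : Subgroup G} (hAX : A ∈ X) (hBX : B ∈ X) (hE : EE V g ≤ X) : centralizer (V : Set G) ≤ X := by
  have hqX : q ∈ X := by rw [← dA, ← h.W0_sq hA]; exact mul_mem hAX hAX
  have hrX : r ∈ X := by rw [← dB, ← h.W0_sq hB]; exact mul_mem hBX hBX
  have hVX : V ≤ X := by
    intro v hv
    rcases h.mem_V' h.t hv with rfl | rfl | rfl | rfl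
    · exact one_mem X
    · rw [← h.mqr]; exact mul_mem hqX hrX
    · exact hqX
    · exact hrX
  have key : ∀ x ∈ h.toNTri.W0, ∀ y ∈ h.toNTri.W0, y ∈ X → dl x a = dl y a → x ∈ X := by
    intro x hx y hy hyX e
    obtain ⟨v, hv, rfl⟩ := h.exists_V_of_dl (h.W_le_centV hx.1) (h.W_le_centV hy.1) e
      (((h.W0_val hx h.t.hq h.Ub h.Vb).trans e).trans (h.W0_val hy h.t.hq h.Ub h.Vb).symm)
      (((h.W0_val hx h.t.hr h.Uc h.Vc).trans e).trans (h.W0_val hy h.t.hr h.Uc h.Vc).symm)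
    exact mul_mem (hVX hv) hyX
  intro d hd
  obtain ⟨w, hw, e, he, rfl⟩ := h.exists_W0_E hd
  refine mul_mem ?_ (hE he)
  rcases h.mem_V' h.t (h.dl_mem h.t.hp h.ha (h.W_le_centV hw.1)) with e1 | e1 | e1 | e1
  · exact key w hw 1 (one_mem _) (one_mem _) (by rw [e1, h.dl_one])
  · refine key w hw (A * B) (mul_mem hA hB) (mul_mem hAX hBX) ?_
    rw [h.dmul_a (h.W_le_centV hA.1) (h.W_le_centV hB.1), dA, dB, h.mqr, e1]
  · exact key w hw A hA hAX (e1.trans dA.symm)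
  · exact key w hw B hB hBX (e1.trans dB.symm)

theorem N_le_of {X : Subgroup G} (hS : normalizer (V : Set G) ⊓ centralizer ({p} : Set G) ≤ X) (hg : g ∈ X) :
    normalizer (V : Set G) ≤ X := by
  intro n hn
  have key : ∀ i : ℕ, (g ^ i * n) * p * (g ^ i * n)⁻¹ = p → n ∈ X := by
    intro i hi
    have h1 : g ^ i * n ∈ X := hS (mem_inf.mpr ⟨mul_mem (pow_mem h.gN i) hn,
      mem_centralizer_singleton_iff.mpr (mul_inv_eq_iff_eq_mul.mp hi)⟩)
    have h2 := mul_mem (inv_mem (pow_mem hg i)) h1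
    rwa [inv_mul_cancel_left] at h2
  rcases h.mem_V' h.t (h.conj_V hn h.t.hp.1) with e | e | e | e
  · exact absurd e (h.pt_conj hn h.t.hp).2
  · exact key 0 (by rw [pow_zero, one_mul, e])
  · refine key 2 ?_
    have : g ^ 2 * n * p * (g ^ 2 * n)⁻¹ = g * (g * (n * p * n⁻¹) * g⁻¹) * g⁻¹ := by rw [pow_two]; group
    rw [this, e, h.gq, h.gr]
  · refine key 1 ?_
    have : g ^ 1 * n * p * (g ^ 1 * n)⁻¹ = g * (n * p * n⁻¹) * g⁻¹ := by rw [pow_one]; group
    rw [this, e, h.gr]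

/-- **normal form** -/
theorem exists_conf : (∃ A B u s : G, (Conf64 (normalizer (V : Set G) ⊓ centralizer ({p} : Set G))
      (normalizer (V : Set G)) A B u s g) ∧ A ^ 2 = q ∧ B ^ 2 = r ∧ u * (A * B) ∈ U p) ∨
    ∃ A B u f s : G, (Conf128 (normalizer (V : Set G) ⊓ centralizer ({p} : Set G))
      (normalizer (V : Set G)) A B u f s g) ∧ A ^ 2 = q ∧ B ^ 2 = r ∧ u * (A * B) ∈ U p := by
  obtain ⟨s, A, B, u, hsN, sp, sr, ss, sg, hA, hB, dA, dB, gA, gB, sA, sB, hu, su, sf⟩ := h.exists_gens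
  have hcS := h.card_S
  have uE : u ∈ EE V g := by rw [hu]; exact h.u_E
  have AA : A * A = q := by rw [h.W0_sq hA, dA]
  have BB : B * B = r := by rw [h.W0_sq hB, dB]
  have hsS : s ∈ normalizer (V : Set G) ⊓ centralizer ({p} : Set G) :=
    mem_inf.mpr ⟨hsN, mem_centralizer_singleton_iff.mpr (mul_inv_eq_iff_eq_mul.mp sp)⟩
  have hDS := h.D_le_S
  have hAS := hDS (h.W_le_centV hA.1)
  have hBS := hDS (h.W_le_centV hB.1)
  have hES : EE V g ≤ normalizer (V : Set G) ⊓ centralizer ({p} : Set G) := inf_le_left.trans hDS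
  have uA : u * A * u⁻¹ = A⁻¹ := by rw [hu]; exact h.W0_conj_u hA
  have uB : u * B * u⁻¹ = B⁻¹ := by rw [hu]; exact h.W0_conj_u hB
  have A4 : A ^ 4 = 1 := by
    have : A ^ 4 = (A * A) * (A * A) := by rw [← pow_two, ← pow_two, ← pow_mul]
    rw [this, AA, h.mqq]
  have B4 : B ^ 4 = 1 := by
    have : B ^ 4 = (B * B) * (B * B) := by rw [← pow_two, ← pow_two, ← pow_mul]
    rw [this, BB, h.mrr]
  have hUp : u * (A * B) ∈ U p := by
    have hAD := h.W_le_centV hA.1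
    have hBD := h.W_le_centV hB.1
    have huD := (mem_EE.mp uE).1
    have hABD := mul_mem hAD hBD
    have hab : A * B ∈ h.toNTri.W0 := mul_mem hA hB
    have e0 : dl (A * B) a = p := by rw [h.dmul_a hAD hBD, dA, dB, h.mqr]
    obtain ⟨v, hv, e⟩ := h.exists_V_of_dl (mul_mem huD hABD) h.Da
      (by rw [h.dmul_a huD hABD, e0, hu, h.u_dl.1, h.dl_self, h.mpp])
      (by
        rw [h.dmul_b huD hABD, h.W0_val hab h.t.hq h.Ub h.Vb, e0, hu, h.u_dl.2.1, h.ab]
        exact h.mqp)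
      (by
        rw [h.dmul_c huD hABD, h.W0_val hab h.t.hr h.Uc h.Vc, e0, hu, h.u_dl.2.2, h.ac]
        exact h.mrp)
    rw [e]
    exact mul_mem (h.V_le p h.t.hp hv) h.ha
  have AA' : A ^ 2 = q := by rw [pow_two, AA]
  have BB' : B ^ 2 = r := by rw [pow_two, BB]
  rcases h.card_E with h2 | h4
  · left
    have hE2 : ∀ e ∈ EE V g, e = 1 ∨ e = u := fun e he => by rw [hu]; exact h.E_two h2 he
    have hSle : normalizer (V : Set G) ⊓ centralizer ({p} : Set G) ≤ closure {A, B, u, s} := by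
      have m : ∀ x ∈ ({A, B, u, s} : Set G), x ∈ closure {A, B, u, s} := fun x hx => subset_closure hx
      refine h.S_le hsN sp sr (h.D_le_of hA hB dA dB (m A (by simp)) (m B (by simp)) ?_) (m s (by simp))
      intro e he
      rcases hE2 e he with rfl | rfl
      · exact one_mem _
      · exact m _ (by simp)
    refine ⟨A, B, u, s, ?_, AA', BB', hUp⟩
    exact
      { card := by rw [hcS, h2]
        eqS := by
          refine le_antisymm hSle ((closure_le _).mpr ?_)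
          rintro x (rfl | rfl | rfl | rfl)
          · exact hAS
          · exact hBS
          · exact hES uE
          · exact hsS
        eqP := by
          refine le_antisymm ?_ ((closure_le _).mpr ?_)
          · refine h.N_le_of (hSle.trans (closure_mono ?_)) (subset_closure (by simp))
            rintro x (rfl | rfl | rfl | rfl) <;> simp
          · rintro x (rfl | rfl | rfl | rfl | rfl)
            · exact hAS.1
            · exact hBS.1
            · exact (hES uE).1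
            · exact hsN
            · exact h.gN
        ab := h.W0_comm hA hB
        a4 := A4
        b4 := B4
        u2 := by rw [pow_two]; exact h.E_sq uE
        s2 := by rw [pow_two]; exact ss
        x3 := h.g3
        ua := uA
        ub := uB
        sa := sA
        sb := sB
        su := su
        xa := gA
        xb := gB
        xu := (mem_EE.mp uE).2.symm
        sx := sg }
  · right
    obtain ⟨f, hf, hfq⟩ := h.E_four h4
    obtain ⟨fb, fc⟩ := (h.E_dl hf).2.2.1 hfq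
    have hfD := (mem_EE.mp hf).1
    have hE4 : ∀ e ∈ EE V g, e = 1 ∨ e = u ∨ e = f ∨ e = f * u := fun e he => by
      rw [hu]; exact h.E_four' hf hfq he
    have hSle : normalizer (V : Set G) ⊓ centralizer ({p} : Set G) ≤ closure {A, B, u, f, s} := by
      have m : ∀ x ∈ ({A, B, u, f, s} : Set G), x ∈ closure {A, B, u, f, s} := fun x hx => subset_closure hx
      refine h.S_le hsN sp sr (h.D_le_of hA hB dA dB (m A (by simp)) (m B (by simp)) ?_) (m s (by simp))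
      intro e he
      rcases hE4 e he with rfl | rfl | rfl | rfl
      · exact one_mem _
      · exact m _ (by simp)
      · exact m _ (by simp)
      · exact mul_mem (m _ (by simp)) (m _ (by simp))
    have ff := h.E_sq hf
    have uu := h.E_sq uE
    have fu : f * u = u * f := by
      have h1 := h.E_sq (mul_mem hf uE)
      calc f * u = (f * u) * (f * u) * (f * u)⁻¹ * 1 := by group
        _ = (f * u)⁻¹ := by rw [h1]; group
        _ = u⁻¹ * f⁻¹ := by group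
        _ = u * f := by rw [inv_eq_self ff, inv_eq_self uu]
    -- the action of `f` on `A`, `B`
    have fA : f * A * f⁻¹ = r * A := by
      obtain ⟨v, hv, e⟩ := h.exists_V_of_dl (h.W_le_centV hA.1) (h.W_le_centV h.ca_W0.1.1)
        (dA.trans h.ca_W0.2.symm)
        (((h.W0_val hA h.t.hq h.Ub h.Vb).trans (dA.trans h.ca_W0.2.symm)).trans
          (h.W0_val h.ca_W0.1 h.t.hq h.Ub h.Vb).symm)
        (((h.W0_val hA h.t.hr h.Uc h.Vc).trans (dA.trans h.ca_W0.2.symm)).trans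
          (h.W0_val h.ca_W0.1 h.t.hr h.Uc h.Vc).symm)
      have hvf := h.fix_of_centV hfD hv
      have hrv := h.V_comm h.t.hr.1 hv
      have hqc := h.vcomm h.t.hq.1 h.Dc
      rw [e]
      calc f * (v * (cc g a * a)) * f⁻¹ = (f * v * f⁻¹) * ((f * cc g a * f⁻¹) * (f * a * f⁻¹)) := by group
        _ = v * ((p * cc g a) * (q * a)) := by rw [hvf, conj_eq_dl, conj_eq_dl, fc, hfq]
        _ = v * (p * (cc g a * q) * a) := by group
        _ = v * (p * q) * (cc g a * a) := by rw [← hqc]; group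
        _ = r * (v * (cc g a * a)) := by rw [h.mpq, ← hrv]; group
    have fB : f * B * f⁻¹ = p * B := by
      obtain ⟨v, hv, e⟩ := h.exists_V_of_dl (h.W_le_centV hB.1) (h.W_le_centV h.ab_W0.1.1)
        (dB.trans h.ab_W0.2.symm)
        (((h.W0_val hB h.t.hq h.Ub h.Vb).trans (dB.trans h.ab_W0.2.symm)).trans
          (h.W0_val h.ab_W0.1 h.t.hq h.Ub h.Vb).symm)
        (((h.W0_val hB h.t.hr h.Uc h.Vc).trans (dB.trans h.ab_W0.2.symm)).trans
          (h.W0_val h.ab_W0.1 h.t.hr h.Uc h.Vc).symm)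
      have hvf := h.fix_of_centV hfD hv
      have hpv := h.V_comm h.t.hp.1 hv
      have hra := h.vcomm h.t.hr.1 h.Da
      rw [e]
      calc f * (v * (a * bb g a)) * f⁻¹ = (f * v * f⁻¹) * ((f * a * f⁻¹) * (f * bb g a * f⁻¹)) := by group
        _ = v * ((q * a) * (r * bb g a)) := by rw [hvf, conj_eq_dl, conj_eq_dl, fb, hfq]
        _ = v * (q * (a * r) * bb g a) := by group
        _ = v * (q * r) * (a * bb g a) := by rw [← hra]; group
        _ = p * (v * (a * bb g a)) := by rw [h.mqr, ← hpv]; group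
    refine ⟨A, B, u, f, s, ?_, AA', BB', hUp⟩
    exact
      { card := by rw [hcS, h4]
        eqS := by
          refine le_antisymm hSle ((closure_le _).mpr ?_)
          rintro x (rfl | rfl | rfl | rfl | rfl)
          · exact hAS
          · exact hBS
          · exact hES uE
          · exact hES hf
          · exact hsS
        eqP := by
          refine le_antisymm ?_ ((closure_le _).mpr ?_)
          · refine h.N_le_of (hSle.trans (closure_mono ?_)) (subset_closure (by simp))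
            rintro x (rfl | rfl | rfl | rfl | rfl) <;> simp
          · rintro x (rfl | rfl | rfl | rfl | rfl | rfl)
            · exact hAS.1
            · exact hBS.1
            · exact (hES uE).1
            · exact (hES hf).1
            · exact hsN
            · exact h.gN
        ab := h.W0_comm hA hB
        a4 := A4
        b4 := B4
        u2 := by rw [pow_two]; exact uu
        s2 := by rw [pow_two]; exact ss
        f2 := by rw [pow_two]; exact ff
        x3 := h.g3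
        ua := uA
        ub := uB
        fa := by
          rw [fA, pow_two, BB]
          exact h.vcomm h.t.hr.1 (h.W_le_centV hA.1)
        fb := by
          have hBi : B⁻¹ = r * B := by
            have : (r * B) * B = 1 := by rw [mul_assoc, BB, h.mrr]
            exact (eq_inv_of_mul_eq_one_left this).symm
          rw [fB, pow_two, AA, hBi, ← mul_assoc, h.mqr]
        sa := sA
        sb := sB
        su := su
        fu := fu
        sf := sf f hf hfq
        xa := gA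
        xb := gB
        xu := (mem_EE.mp uE).2.symm
        xf := (mem_EE.mp hf).2.symm
        sx := sg }

end Fr

theorem NTri.exists_conf {V : Subgroup G} {U C : G → Subgroup G} (h : NTri V U C) {p : G} (hp : Pt V p) :
    (∃ A B u s x : G, Conf64 (normalizer (V : Set G) ⊓ centralizer ({p} : Set G))
      (normalizer (V : Set G)) A B u s x ∧ A ^ 2 ∈ V ∧ B ^ 2 ∈ V ∧ A ^ 2 * B ^ 2 = p ∧ A ^ 2 ≠ 1 ∧
      B ^ 2 ≠ 1 ∧ u * (A * B) ∈ U p) ∨
    ∃ A B u f s x : G, Conf128 (normalizer (V : Set G) ⊓ centralizer ({p} : Set G))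
      (normalizer (V : Set G)) A B u f s x ∧ A ^ 2 ∈ V ∧ B ^ 2 ∈ V ∧ A ^ 2 * B ^ 2 = p ∧ A ^ 2 ≠ 1 ∧
      B ^ 2 ≠ 1 ∧ u * (A * B) ∈ U p := by
  obtain ⟨q, hq, hpq⟩ := h.exists_other hp
  obtain ⟨a, ha, haV⟩ := h.exists_notMem hp
  obtain ⟨g, hg⟩ := h.exists_frame (h.tr hp hq hpq) ha haV
  rcases hg.exists_conf with ⟨A, B, u, s, hc, e1, e2, e3⟩ | ⟨A, B, u, f, s, hc, e1, e2, e3⟩
  · exact Or.inl ⟨A, B, u, s, g, hc, by rw [e1]; exact hq.1, by rw [e2]; exact hg.t.hr.1,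
      by rw [e1, e2, hg.mqr], by rw [e1]; exact hq.2, by rw [e2]; exact hg.t.hr.2, e3⟩
  · exact Or.inr ⟨A, B, u, f, s, g, hc, by rw [e1]; exact hq.1, by rw [e2]; exact hg.t.hr.1,
      by rw [e1, e2, hg.mqr], by rw [e1]; exact hq.2, by rw [e2]; exact hg.t.hr.2, e3⟩

end Cfsg.Agent.Omega.NO3S.Fit.MTri

end

section


/-!
# The natural block, K-free: the involutions of `K_p` lie in `U_p`; `C_G(p)` normalises `U_p`

helper311 #13963, section 5, (A13).
-/

set_option autoImplicit false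
set_option linter.unusedSectionVars false

namespace Cfsg.Agent.Omega.NO3S.Fit.MTri

open Subgroup Cfsg Cfsg.Agent.ZN Cfsg.Agent.MinSimple.Geo
open Cfsg.Agent.Classification.TitsFin.Tri (Pt kst cj_kst K Q)
open Cfsg.Agent.SectRankFour.C2.Defs (Conf64 Conf128)
open Cfsg.Agent.ZN.Block (conj_mem_of_normalizer conj_mem_of_normalizer' le_normalizer_of_forall
  mem_normalizer_of card_sup_mul_card_inf card_mul_relIndex' mul_mem_of_relIndex_two o2_le o2_conj o2_isPGroup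
  le_o2 le_normalizer_o2)

universe u

section Model

open Cfsg.Agent.ClassificationK.GTwoModel Cfsg.Agent.ClassificationK.GTwoModel.T Cfsg.Agent.MTwelveType.Base

set_option synthInstance.maxSize 1000 in
set_option maxRecDepth 100000 in
theorem model64 : ∀ k : T (2 * 2), k * a' 2 = a' 2 * k → k * b' 2 = b' 2 * k →
    k * (t 2 * (⟨1, 0, false, false⟩ * ⟨0, 1, false, false⟩)) =
      (t 2 * (⟨1, 0, false, false⟩ * ⟨0, 1, false, false⟩)) * k →
    k = 1 ∨ k = a' 2 ∨ k = b' 2 ∨ k = a' 2 * b' 2 ∨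
      k = t 2 * (⟨1, 0, false, false⟩ * ⟨0, 1, false, false⟩) ∨
      k = a' 2 * (t 2 * (⟨1, 0, false, false⟩ * ⟨0, 1, false, false⟩)) ∨
      k = b' 2 * (t 2 * (⟨1, 0, false, false⟩ * ⟨0, 1, false, false⟩)) ∨
      k = a' 2 * b' 2 * (t 2 * (⟨1, 0, false, false⟩ * ⟨0, 1, false, false⟩)) := by decide

end Model

section Model2

open Cfsg.Agent.SectRankFour.C2.FinAut

set_option maxRecDepth 100000 in
theorem model128' : ∀ m < 128, (mul m 2 == mul 2 m && mul m 8 == mul 8 m && mul m 31 == mul 31 m &&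
    mul m m == 0) = true → (m == 0 || m == 2 || m == 8 || m == mul 2 8 || m == 31 || m == mul 2 31 ||
      m == mul 8 31 || m == mul (mul 2 8) 31) = true := by decide +kernel

theorem model128 (m : ℕ) (hm : m < 128) (h1 : mul m 2 = mul 2 m) (h2 : mul m 8 = mul 8 m)
    (h3 : mul m 31 = mul 31 m) (h4 : mul m m = 0) : m = 0 ∨ m = 2 ∨ m = 8 ∨ m = mul 2 8 ∨ m = 31 ∨
      m = mul 2 31 ∨ m = mul 8 31 ∨ m = mul (mul 2 8) 31 := by
  have h := model128' m hm (by simp [h1, h2, h3, h4])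
  simpa [or_assoc] using h

end Model2

variable {G : Type u} [Group G]

/-- `|S| = 64`: an element of `S` centralising `a², b², uab` is in the subgroup generated by them -/
theorem mem_of_conf64 {S P1 X : Subgroup G} {a b u s x : G} (h : Conf64 S P1 a b u s x) {k : G}
    (hk : k ∈ S) (h1 : k * a ^ 2 = a ^ 2 * k) (h2 : k * b ^ 2 = b ^ 2 * k)
    (h3 : k * (u * (a * b)) = (u * (a * b)) * k) (x1 : a ^ 2 ∈ X) (x2 : b ^ 2 ∈ X)
    (x3 : u * (a * b) ∈ X) : k ∈ X := by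
  open Cfsg.Agent.MTwelveType.Base in
  obtain ⟨f, hinj, hrange, hfa, hfb, hfu, -⟩ := Cfsg.Agent.SectRankFour.C2.Fin64Iso.exists_hom h
  rw [← hrange] at hk
  obtain ⟨k, rfl⟩ := hk
  have ea : f (ClassificationK.GTwoModel.T.a' 2) = a ^ 2 := by
    rw [← hfa, ← map_pow]; exact congrArg f (by decide)
  have eb : f (ClassificationK.GTwoModel.T.b' 2) = b ^ 2 := by
    rw [← hfb, ← map_pow]; exact congrArg f (by decide)
  rw [← ea] at h1 x1
  rw [← eb] at h2 x2
  rw [← hfa, ← hfb, ← hfu, ← map_mul, ← map_mul] at h3 x3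
  rw [← map_mul, ← map_mul] at h1 h2 h3
  rcases model64 k (hinj h1) (hinj h2) (hinj h3) with e | e | e | e | e | e | e | e
  · rw [e, map_one]; exact one_mem _
  · rw [e]; exact x1
  · rw [e]; exact x2
  · rw [e, map_mul]; exact mul_mem x1 x2
  · rw [e]; exact x3
  · rw [e, map_mul]; exact mul_mem x1 x3
  · rw [e, map_mul]; exact mul_mem x2 x3
  · rw [e, map_mul, map_mul]; exact mul_mem (mul_mem x1 x2) x3

/-- `|S| = 128`: an involution of `S` centralising `a², b², uab` is in the subgroup generated by them -/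
theorem mem_of_conf128 {S P1 X : Subgroup G} {a b u f s x : G} (h : Conf128 S P1 a b u f s x) {k : G}
    (hk : k ∈ S) (h1 : k * a ^ 2 = a ^ 2 * k) (h2 : k * b ^ 2 = b ^ 2 * k)
    (h3 : k * (u * (a * b)) = (u * (a * b)) * k) (hkk : k * k = 1) (x1 : a ^ 2 ∈ X) (x2 : b ^ 2 ∈ X)
    (x3 : u * (a * b) ∈ X) : k ∈ X := by
  open Cfsg.Agent.SectRankFour.C2.FinAut in
  obtain ⟨m, hm, rfl⟩ := exists_psi h hk
  have ea : psi a b u f s 2 = a ^ 2 := by simp [psi, phi, dec]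
  have eb : psi a b u f s 8 = b ^ 2 := by simp [psi, phi, dec]
  have ey : psi a b u f s 31 = u * (a * b) := by
    have : (31 : ℕ) = mul 16 (mul 1 4) := by decide +kernel
    rw [this, psi_mul h, psi_mul h, psi_a, psi_b, psi_u]
  rw [← ea] at h1 x1
  rw [← eb] at h2 x2
  rw [← ey] at h3 x3
  rw [← psi_mul h, ← psi_mul h] at h1 h2 h3
  rw [← psi_mul h, ← psi_zero a b u f s] at hkk
  have k1 := psi_inj h (mul_lt _ _) (mul_lt _ _) h1
  have k2 := psi_inj h (mul_lt _ _) (mul_lt _ _) h2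
  have k3 := psi_inj h (mul_lt _ _) (mul_lt _ _) h3
  have k4 := psi_inj h (mul_lt _ _) (by norm_num : 0 < 128) hkk
  rcases model128 m hm k1 k2 k3 k4 with e | e | e | e | e | e | e | e
  · rw [e, psi_zero]; exact one_mem _
  · rw [e]; exact x1
  · rw [e]; exact x2
  · rw [e, psi_mul h]; exact mul_mem x1 x2
  · rw [e]; exact x3
  · rw [e, psi_mul h]; exact mul_mem x1 x3
  · rw [e, psi_mul h]; exact mul_mem x2 x3
  · rw [e, psi_mul h, psi_mul h]; exact mul_mem (mul_mem x1 x2) x3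

namespace NTri

variable {V : Subgroup G} {U C : G → Subgroup G} (h : NTri V U C) {p : G}

include h

/-- an involution centralising `U_p` is in `U_p` -/
theorem mem_U_of_K [Finite G] (hp : Pt V p) {k : G} (hk : k ∈ K U p) (hkk : k * k = 1) : k ∈ U p := by
  have hkU : ∀ u ∈ U p, k * u = u * k := fun u hu => (mem_centralizer_iff.mp hk u hu).symm
  have hkV : k ∈ centralizer (V : Set G) := h.K_le_centV hp hk
  have hkS : k ∈ normalizer (V : Set G) ⊓ centralizer ({p} : Set G) :=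
    ⟨h.centV_le_norm hkV, mem_centralizer_singleton_iff.mpr (mem_centralizer_iff.mp hkV p hp.1).symm⟩
  rcases h.exists_conf hp with ⟨A, B, u, s, x, hc, a1, a2, a3, a4, a5, a6⟩ |
    ⟨A, B, u, f, s, x, hc, a1, a2, a3, a4, a5, a6⟩
  · exact mem_of_conf64 hc hkS (hkU _ (h.V_le p hp a1)) (hkU _ (h.V_le p hp a2)) (hkU _ a6)
      (h.V_le p hp a1) (h.V_le p hp a2) a6
  · exact mem_of_conf128 hc hkS (hkU _ (h.V_le p hp a1)) (hkU _ (h.V_le p hp a2)) (hkU _ a6) hkk
      (h.V_le p hp a1) (h.V_le p hp a2) a6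

/-- `U_p` is generated by `V` and `V^f` -/
theorem exists_gen (hp : Pt V p) : ∃ f ∈ C p, Mov (U p) p f ∧ ∀ X : Subgroup G, V ≤ X →
    (∀ v ∈ V, f * v * f⁻¹ ∈ X) → U p ≤ X := by
  obtain ⟨f, hf, -, hfm⟩ := h.exists_odd hp
  obtain ⟨q, hq, hpq⟩ := h.exists_other hp
  refine ⟨f, hf, hfm, fun X hV hX u hu => ?_⟩
  by_cases huV : u ∈ V
  · exact hV huV
  have h1 : f * q * f⁻¹ ∉ V := h.conj_notMem_V hp hq hpq hf hfm hq.1 (h.not_cg hq hpq)
  have h2 : f * q * f⁻¹ ∈ U p := h.conj_memU hp hf (h.p_mem hq hp)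
  have h3 := h.mul_memV hp hu huV h2 h1
  have e : u = (u * (f * q * f⁻¹)) * (f * q * f⁻¹)⁻¹ := by group
  rw [e]
  exact mul_mem (hV h3) (inv_mem (hX q hq.1))

/-- (A13) -/
theorem centralizer_le_normU [Finite G] (hp : Pt V p)
    (hfull : ∀ c ∈ centralizer ({p} : Set G), ∀ v ∈ V, ∀ w ∈ V, c * v * c⁻¹ * w = w * (c * v * c⁻¹)) :
    centralizer ({p} : Set G) ≤ normalizer (U p : Set G) := by
  obtain ⟨f, hf, hfm, hgen⟩ := h.exists_gen hp
  have hfc : f ∈ centralizer ({p} : Set G) := h.C_le p hp hf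
  -- all conjugates of `V` in `C_G(p)` lie in `U_p`
  have key : ∀ c ∈ centralizer ({p} : Set G), ∀ v ∈ V, c * v * c⁻¹ ∈ U p := by
    intro c hc v hv
    refine h.mem_U_of_K hp (mem_centralizer_iff.mpr fun u hu => ?_) ?_
    · have h1 : U p ≤ centralizer ({c * v * c⁻¹} : Set G) := by
        refine hgen _ (fun w hw => mem_centralizer_singleton_iff.mpr (hfull c hc v hv w hw).symm)
          fun w hw => mem_centralizer_singleton_iff.mpr ?_
        have h2 := hfull (f⁻¹ * c) (mul_mem (inv_mem hfc) hc) v hv w hw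
        have e1 : f⁻¹ * c * v * (f⁻¹ * c)⁻¹ * w = f⁻¹ * (c * v * c⁻¹ * (f * w * f⁻¹)) * f := by group
        have e2 : w * (f⁻¹ * c * v * (f⁻¹ * c)⁻¹) = f⁻¹ * ((f * w * f⁻¹) * (c * v * c⁻¹)) * f := by group
        rw [e1, e2] at h2
        exact (mul_left_cancel (mul_right_cancel h2)).symm
      exact mem_centralizer_singleton_iff.mp (h1 hu)
    · have e : c * v * c⁻¹ * (c * v * c⁻¹) = c * (v * v) * c⁻¹ := by group
      rw [e, h.sqV v hv]; group
  refine le_normalizer_of_forall fun c hc u hu => ?_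
  have h1 : U p ≤ (U p).comap (MulAut.conj c).toMonoidHom := by
    refine hgen _ (fun v hv => key c hc v hv) fun v hv => ?_
    have := key (c * f) (mul_mem hc hfc) v hv
    have e : c * f * v * (c * f)⁻¹ = c * (f * v * f⁻¹) * c⁻¹ := by group
    rw [e] at this
    exact this
  exact h1 hu

end NTri

end Cfsg.Agent.Omega.NO3S.Fit.MTri

end

end

-- merged: Cfsg.Agent.Mrg.Omega.NO3S.Fit.MTri.Fin
section

section


/-!
# The natural block, K-free: the contradiction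

helper311 #13963, section 5. `NTri V U C`, `N_G(V) ∩ C_G(p)` a Sylow 2-subgroup of the simple group `G` of characteristic
2 type, the conjugates of `V` in `C_G(p)` commute. Then `C_G(p)` normalises `U_p`; an involution of `C_G(p)` commuting
with an element of order 3 of `C_G(p)` is `p` (`eq_of_comm`).

* `|S| = 64`: all involutions are conjugate (`Fin64Pat.one_class`), some `c ∈ C_G(p)` takes `u` into `V`, so `u ∈ U_p`.
* `|S| = 128`: no involution of `E ∖ V`, `E = ⟨a², b², u, f⟩`, is conjugate to `p`; so `N_G(E) ≤ N_G(V)`, but the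
  extremal transfer gives `g ∈ N_G(E)` which takes `f` into `⟨a, b, u⟩ ⊴ N_G(V)`.
-/

set_option autoImplicit false
set_option linter.unusedSectionVars false

namespace Cfsg.Agent.Omega.NO3S.Fit.MTri

open Subgroup Cfsg Cfsg.Agent.ZN Cfsg.Agent.MinSimple.Geo
open Cfsg.Agent.Classification.TitsFin.Tri (Pt kst cj_kst K Q)
open Cfsg.Agent.SectRankFour.C2.Defs (Conf64 Conf128)
open Cfsg.Agent.ZN.Block (conj_mem_of_normalizer conj_mem_of_normalizer' le_normalizer_of_forall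
  mem_normalizer_of card_sup_mul_card_inf card_mul_relIndex' mul_mem_of_relIndex_two o2_le o2_conj o2_isPGroup
  le_o2 le_normalizer_o2)

universe u

variable {G : Type u} [Group G]

namespace NTri

variable {V : Subgroup G} {U C : G → Subgroup G} (h : NTri V U C) {p : G}

include h

/-- an involution of `C_p` commuting with a moving element lies in `Q_p` -/
theorem comm_mem_Q (hp : Pt V p) {X Y : G} (hX : X ∈ C p) (hm : Mov (U p) p X) (hY : Y ∈ C p)
    (hYY : Y * Y = 1) (hc : X * Y = Y * X) : Y ∈ Q U C p := by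
  obtain ⟨q, hq, hpq⟩ := h.exists_other hp
  have hpp := h.pp hp
  have hcX := h.c_comm hp hX
  have hcY := h.c_comm hp hY
  have hqU : q ∈ U p := h.p_mem hq hp
  have hq1 := h.not_cg hq hpq
  have haU : X * q * X⁻¹ ∈ U p := h.conj_memU hp hX hqU
  have ha1 : ¬ Cg p (X * q * X⁻¹) 1 := h.conj_notCg hp hX hq1
  have haq : ¬ Cg p (X * q * X⁻¹) q := hm q hqU hq1
  have hsw : ∀ w, Y * (X * w * X⁻¹) * Y⁻¹ = X * (Y * w * Y⁻¹) * X⁻¹ := fun w => by
    calc Y * (X * w * X⁻¹) * Y⁻¹ = (Y * X) * w * (Y * X)⁻¹ := by group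
      _ = (X * Y) * w * (X * Y)⁻¹ := by rw [hc]
      _ = _ := by group
  have hYYw : ∀ w, Y * (Y * w * Y⁻¹) * Y⁻¹ = w := fun w => by
    calc Y * (Y * w * Y⁻¹) * Y⁻¹ = (Y * Y) * w * (Y * Y)⁻¹ := by group
      _ = w := by rw [hYY]; group
  have hsq := h.mov_sq hp hX hm hqU hq1
  have hqq : q * q = 1 := h.sqU p hp q hqU
  have haa := h.sqU p hp _ haU
  have hcomm := h.commU hp hqU haU
  rcases h.four hp hqU hq1 haU ha1 haq (h.conj_memU hp hY hqU) with e | e | e | e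
  · exact absurd e (h.conj_notCg hp hY hq1)
  · refine h.mem_Q_of_fix hp hY hqU hq1 haU ha1 haq e ?_
    rw [hsw]
    exact e.conj hcX
  · exfalso
    have e1 := e.conj hcY
    rw [hYYw, hsw] at e1
    have e2 := (e1.trans hpp (e.conj hcX)).trans hpp hsq
    have e3 := (Cg.refl p q).mul hpp (h.commU hp (h.p_mem hp hp) hqU) e2
    rw [← mul_assoc, hqq, one_mul] at e3
    exact ha1 (e3.symm hpp)
  · exfalso
    have e1 := e.conj hcY
    rw [hYYw] at e1
    have e3 : Cg p (Y * (X * q * X⁻¹) * Y⁻¹) q := by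
      rw [hsw]
      have e4 := (e.conj hcX).trans hpp (h.mul_conj hp haU (Cg.refl _ _) hsq)
      have e6 : X * q * X⁻¹ * (q * (X * q * X⁻¹)) = q := by rw [hcomm, ← mul_assoc, haa, one_mul]
      rwa [e6] at e4
    have e5 := e1.trans hpp (h.mul_conj hp (mul_mem hqU haU) e e3)
    have e6 : q * (X * q * X⁻¹) * q = X * q * X⁻¹ := by rw [hcomm, mul_assoc, hqq, mul_one]
    rw [e6] at e5
    exact haq (e5.symm hpp)

/-- an element of `Q_p` commuting with a moving element centralises `U_p` -/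
theorem comm_mem_K (hp : Pt V p) {X Y : G} (hX : X ∈ C p) (hm : Mov (U p) p X) (hY : Y ∈ Q U C p)
    (hc : X * Y = Y * X) : Y ∈ K U p := by
  have hpp := h.pp hp
  have hcX := h.c_comm hp hX
  obtain ⟨hYC, hYU⟩ := (h.mem_Q_iff hp).mp hY
  have hcY := h.c_comm hp hYC
  have hsw : ∀ w, Y * (X * w * X⁻¹) * Y⁻¹ = X * (Y * w * Y⁻¹) * X⁻¹ := fun w => by
    calc Y * (X * w * X⁻¹) * Y⁻¹ = (Y * X) * w * (Y * X)⁻¹ := by group
      _ = (X * Y) * w * (X * Y)⁻¹ := by rw [hc]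
      _ = _ := by group
  refine mem_centralizer_iff.mpr fun w hw => ?_
  rcases hYU w hw with e | e
  · exact (mul_inv_eq_iff_eq_mul.mp e).symm
  exfalso
  have hYp : Y * p * Y⁻¹ = p := by rw [hcY, mul_inv_cancel_right]
  have hw1 : ¬ Cg p w 1 := by
    rintro (e1 | e1)
    · rw [e1] at e
      simp only [mul_one, mul_inv_cancel] at e
      exact hp.2 e.symm
    · rw [mul_one] at e1
      rw [e1, hYp, hpp] at e
      exact hp.2 e
  have hcp : ∀ y ∈ U p, p * y = y * p := fun y hy => h.commU hp (h.p_mem hp hp) hy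
  have key : ∀ y, Y * y * Y⁻¹ = p * y → Y * (X * y * X⁻¹) * Y⁻¹ = p * (X * y * X⁻¹) := by
    intro y hy
    rw [hsw, hy]
    calc X * (p * y) * X⁻¹ = (X * p) * y * X⁻¹ := by group
      _ = p * (X * y * X⁻¹) := by rw [hcX]; group
  have k1 := key w e
  have k2 := key _ k1
  have hs := h.mov_sq hp hX hm hw hw1
  have haU := h.conj_memU hp hX hw
  have k3 : Y * (w * (X * w * X⁻¹)) * Y⁻¹ = w * (X * w * X⁻¹) := by
    calc Y * (w * (X * w * X⁻¹)) * Y⁻¹ = (Y * w * Y⁻¹) * (Y * (X * w * X⁻¹) * Y⁻¹) := by group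
      _ = (p * w) * (p * (X * w * X⁻¹)) := by rw [e, k1]
      _ = (p * (w * p)) * (X * w * X⁻¹) := by group
      _ = (p * p) * w * (X * w * X⁻¹) := by rw [← hcp w hw]; group
      _ = w * (X * w * X⁻¹) := by rw [hpp, one_mul]
  have k4 : Y * (X * (X * w * X⁻¹) * X⁻¹) * Y⁻¹ = X * (X * w * X⁻¹) * X⁻¹ := by
    rcases hs with e1 | e1
    · rw [e1, k3]
    · rw [e1]
      calc Y * (p * (w * (X * w * X⁻¹))) * Y⁻¹ = (Y * p * Y⁻¹) * (Y * (w * (X * w * X⁻¹)) * Y⁻¹) := by group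
        _ = p * (w * (X * w * X⁻¹)) := by rw [hYp, k3]
  rw [k4] at k2
  exact hp.2 (mul_eq_right.mp k2.symm)

/-- an involution of `C_p` commuting with a moving element is `p` -/
theorem eq_of_comm [Finite G] (hp : Pt V p) {X Y : G} (hX : X ∈ C p) (hm : Mov (U p) p X) (hY : Y ∈ C p)
    (hYY : Y * Y = 1) (hY1 : Y ≠ 1) (hc : X * Y = Y * X) : Y = p := by
  have h1 := h.mem_U_of_K hp (h.comm_mem_K hp hX hm (h.comm_mem_Q hp hX hm hY hYY hc) hc) hYY
  by_cases h2 : Cg p Y 1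
  · rcases h2 with e | e
    · exact absurd e hY1
    · rw [e, mul_one]
  · exfalso
    refine hm Y h1 h2 ?_
    rw [hc, mul_inv_cancel_right]
    exact Cg.refl _ _

/-- the same structure with `C_G(p)` for `C_p` -/
theorem full [Finite G] (hc : IsCharacteristicTwoType G) (hp : Pt V p)
    (hfull : ∀ c ∈ centralizer ({p} : Set G), ∀ v ∈ V, ∀ w ∈ V, c * v * c⁻¹ * w = w * (c * v * c⁻¹)) :
    NTri V U (fun x => centralizer ({x} : Set G)) := by
  have hcj : ∀ (n x : G), cj n (centralizer ({x} : Set G)) = centralizer ({n * x * n⁻¹} : Set G) := by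
    intro n x
    ext y
    rw [mem_cj, mem_centralizer_singleton_iff, mem_centralizer_singleton_iff]
    constructor
    · intro e
      calc y * (n * x * n⁻¹) = n * ((n⁻¹ * y * n) * x) * n⁻¹ := by group
        _ = n * (x * (n⁻¹ * y * n)) * n⁻¹ := by rw [e]
        _ = n * x * n⁻¹ * y := by group
    · intro e
      calc n⁻¹ * y * n * x = n⁻¹ * (y * (n * x * n⁻¹)) * n := by group
        _ = n⁻¹ * (n * x * n⁻¹ * y) * n := by rw [e]
        _ = x * (n⁻¹ * y * n) := by group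
  have hpU := h.centralizer_le_normU hp hfull
  exact
    { cardV := h.cardV
      sqV := h.sqV
      cardU := h.cardU
      sqU := h.sqU
      V_le := h.V_le
      C_le := fun _ _ => le_rfl
      C_norm := by
        intro p' hp'
        obtain ⟨q, hq, hpq⟩ := h.exists_other hp
        obtain ⟨q', hq', hpq'⟩ := h.exists_other hp'
        obtain ⟨n, hn, e1, -⟩ := h.sym p q p' q' hp hq hpq hp' hq' hpq'
        refine le_normalizer_of_forall fun c hc u hu => ?_
        have e2 := h.conjU n hn p hp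
        rw [e1] at e2
        rw [← e1, ← hcj, mem_cj] at hc
        rw [← e2, mem_cj] at hu ⊢
        have h1 := conj_mem_of_normalizer hpU hc hu
        have e3 : n⁻¹ * c * n * (n⁻¹ * u * n) * (n⁻¹ * c * n)⁻¹ = n⁻¹ * (c * u * c⁻¹) * n := by group
        rwa [e3] at h1
      le_C := fun _ _ => inf_le_right
      sym := h.sym
      conjU := h.conjU
      conjC := fun n _ x _ => hcj n x
      three := by
        intro x hx
        obtain ⟨f, hf, hn, hfk⟩ := h.three x hx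
        refine ⟨f, h.C_le x hx hf, hn, fun hk => hfk ?_⟩
        exact ⟨hf, hk.2.1, hk.2.2.1, hk.2.2.2⟩
      nc := h.nc
      nl := fun R hR hN hC => h.nl R hR hN fun x hx => (h.C_le x hx).trans (hC x hx)
      char2 := fun x hx => MinSimple.Basic.char2_centralizer hc (by rw [pow_two]; exact h.pp hx) hx.2
      soc := h.soc }

end NTri

/-! ### `|S| = 64` -/

section C64

open Cfsg.Agent.ClassificationK.GTwoModel Cfsg.Agent.ClassificationK.GTwoModel.T Cfsg.Agent.MTwelveType.Base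
open Cfsg.Agent.SectRankFour.C2.Fin64Core

theorem false64 [Finite G] (hs : IsSimpleGroup G) (hc : IsCharacteristicTwoType G) {V : Subgroup G}
    {U : G → Subgroup G} (h : NTri V U (fun x => centralizer ({x} : Set G))) {p : G} (hp : Pt V p)
    (Sy : Sylow 2 G) {P1 : Subgroup G} {A B u s x : G} (hconf : Conf64 (Sy : Subgroup G) P1 A B u s x)
    (a1 : A ^ 2 ∈ V) (a3 : A ^ 2 * B ^ 2 = p) (a6 : u * (A * B) ∈ U p) : False := by
  obtain ⟨f, hinj, hrange, hfa, hfb, hfu, -⟩ := Cfsg.Agent.SectRankFour.C2.Fin64Iso.exists_hom hconf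
  have ea : f (a' 2) = A ^ 2 := by
    rw [← hfa, ← map_pow]; exact congrArg f (by decide)
  have eb : f (b' 2) = B ^ 2 := by
    rw [← hfb, ← map_pow]; exact congrArg f (by decide)
  have ez : f (z 2) = p := by
    have e1 : (z 2 : T (2 * 2)) = a' 2 * b' 2 := by decide
    rw [e1, map_mul, ea, eb, a3]
  have D : Cen Sy f := ⟨hinj, hrange, by
    rw [ez]
    exact MinSimple.Basic.char2_centralizer hc (by rw [pow_two]; exact h.pp hp) hp.2⟩
  obtain ⟨c, hcz, hct, -⟩ := Cfsg.Agent.SectRankFour.C2.Fin64One.exists_c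
    (Cfsg.Agent.SectRankFour.C2.Fin64Pat.one_class hc hinj hrange) D
  rw [ez] at hcz
  rw [hfu, ea] at hct
  have hcC : c ∈ centralizer ({p} : Set G) := mem_centralizer_singleton_iff.mpr hcz
  have hu : u ∈ U p := by
    have h1 := conj_mem_of_normalizer' (h.C_norm p hp) hcC (h.V_le p hp a1)
    have e : c⁻¹ * A ^ 2 * c = u := by rw [← hct]; group
    rwa [e] at h1
  have hAB : A * B ∈ U p := (mul_mem_cancel_left hu).mp a6
  have h2 := h.sqU p hp _ hAB
  have h3 : A * B * (A * B) = A ^ 2 * B ^ 2 := by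
    have hab := hconf.ab
    rw [pow_two, pow_two]
    calc A * B * (A * B) = A * (B * A) * B := by group
      _ = A * (A * B) * B := by rw [← hab]
      _ = A * A * (B * B) := by group
  rw [h3, a3] at h2
  exact hp.2 h2

end C64

/-! ### `|S| = 128` -/

section C128

open Cfsg.Agent.SectRankFour.C2.FinAut

/-- Claim A: no element of `⟨u, f⟩` is conjugate to `p` -/
theorem not_conj [Finite G] {V : Subgroup G}
    {U : G → Subgroup G} (h : NTri V U (fun x => centralizer ({x} : Set G))) {p : G} (hp : Pt V p)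
    {S P1 : Subgroup G} {A B u f s x : G} (hconf : Conf128 S P1 A B u f s x) {d g : G}
    (hd : d = u ∨ d = f ∨ d = f * u) (hg : g * p * g⁻¹ = d) : False := by
  have huu : u * u = 1 := by rw [← pow_two, hconf.u2]
  have hff : f * f = 1 := by rw [← pow_two, hconf.f2]
  have hcu : d * u = u * d := by
    rcases hd with rfl | rfl | rfl
    · rfl
    · exact hconf.fu
    · rw [← mul_assoc u, ← hconf.fu]
  have hcf : d * f = f * d := by
    rcases hd with rfl | rfl | rfl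
    · exact hconf.fu.symm
    · rfl
    · rw [mul_assoc, ← hconf.fu]
  have hcx : d * x = x * d := by
    rcases hd with rfl | rfl | rfl
    · exact hconf.xu.symm
    · exact hconf.xf.symm
    · rw [mul_assoc, ← hconf.xu, ← mul_assoc, ← hconf.xf, mul_assoc]
  have hpd : p = g⁻¹ * d * g := by rw [← hg]; group
  have tr : ∀ y : G, d * y = y * d → (g⁻¹ * y * g) ∈ centralizer ({p} : Set G) := by
    intro y hy
    rw [mem_centralizer_singleton_iff, hpd]
    calc g⁻¹ * y * g * (g⁻¹ * d * g) = g⁻¹ * (y * d) * g := by group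
      _ = g⁻¹ * (d * y) * g := by rw [hy]
      _ = g⁻¹ * d * g * (g⁻¹ * y * g) := by group
  have hx1 : x ≠ 1 := by
    intro e
    have h1 := hconf.xa
    rw [e] at h1
    exact a_ne_b hconf (by simpa using h1)
  set X := g⁻¹ * x * g with hX
  have hX3 : X ^ 3 = 1 := by
    have : X ^ 3 = g⁻¹ * x ^ 3 * g := by rw [hX]; simp only [pow_succ, pow_zero, one_mul]; group
    rw [this, hconf.x3]; group
  have hX1 : X ≠ 1 := by
    intro e
    apply hx1
    have : x = g * X * g⁻¹ := by rw [hX]; group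
    rw [this, e]; group
  have hXo : orderOf X = 3 := orderOf_eq_prime hX3 hX1
  have hXC := tr x hcx
  have hmov : Mov (U p) p X := by
    refine h.mov_of_odd hp hXC (by rw [hXo]; decide) fun hQ => hX1 ?_
    obtain ⟨n, hn⟩ := h.isPGroup_Q hp ⟨X, hQ⟩
    exact eq_one_of_odd (by rw [hXo]; decide) (congrArg Subtype.val hn : X ^ 2 ^ n = 1)
  have hone : ∀ y : G, y ≠ 1 → y * y = 1 → d * y = y * d → x * y = y * x → g⁻¹ * y * g = p := by
    intro y hy1 hyy hdy hxy
    refine h.eq_of_comm hp hXC hmov (tr y hdy) ?_ ?_ ?_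
    · have e : g⁻¹ * y * g * (g⁻¹ * y * g) = g⁻¹ * (y * y) * g := by group
      rw [e, hyy]; group
    · intro e
      apply hy1
      have : y = g * (g⁻¹ * y * g) * g⁻¹ := by group
      rw [this, e]; group
    · calc g⁻¹ * x * g * (g⁻¹ * y * g) = g⁻¹ * (x * y) * g := by group
        _ = g⁻¹ * (y * x) * g := by rw [hxy]
        _ = g⁻¹ * y * g * (g⁻¹ * x * g) := by group
  have hu1 : u ≠ 1 := by
    intro e
    have h1 : psi A B u f s 16 = psi A B u f s 0 := by rw [psi_u, psi_zero, e]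
    exact absurd (psi_inj hconf (by norm_num) (by norm_num) h1) (by norm_num)
  have hf1 : f ≠ 1 := by
    intro e
    have h1 : psi A B u f s 32 = psi A B u f s 0 := by rw [psi_f, psi_zero, e]
    exact absurd (psi_inj hconf (by norm_num) (by norm_num) h1) (by norm_num)
  have huf : u ≠ f := by
    intro e
    have h1 : psi A B u f s 16 = psi A B u f s 32 := by rw [psi_u, psi_f, e]
    exact absurd (psi_inj hconf (by norm_num) (by norm_num) h1) (by norm_num)
  have e1 := hone u hu1 huu hcu hconf.xu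
  have e2 := hone f hf1 hff hcf hconf.xf
  apply huf
  have e3 : g⁻¹ * u * g = g⁻¹ * f * g := e1.trans e2.symm
  exact mul_left_cancel (mul_right_cancel e3)

set_option maxRecDepth 100000 in
theorem modelE : ∀ m < 128, isE m = true →
    (m == 0 || m == 2 || m == 8 || m == mul 2 8 || (List.range 16).any fun k =>
      m == mul (mul k 16) (inv k) || m == mul (mul k 32) (inv k) || m == mul (mul k (mul 32 16)) (inv k)) = true := by
  decide +kernel

/-- Claim B: an element of `E` conjugate to `p` lies in `V` -/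
theorem mem_V_of_conj [Finite G] {V : Subgroup G}
    {U : G → Subgroup G} (h : NTri V U (fun x => centralizer ({x} : Set G))) {p : G} (hp : Pt V p)
    {S P1 : Subgroup G} {A B u f s x : G} (hconf : Conf128 S P1 A B u f s x) (a1 : A ^ 2 ∈ V)
    (a2 : B ^ 2 ∈ V) {d g : G} (hd : d ∈ subE hconf) (hg : g * p * g⁻¹ = d) : d ∈ V := by
  obtain ⟨m, hm, hm1, rfl⟩ := hd
  have h1 := modelE m hm hm1
  simp only [Bool.or_eq_true, beq_iff_eq, List.any_eq_true, List.mem_range] at h1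
  have ea : psi A B u f s 2 = A ^ 2 := by simp [psi, phi, dec]
  have eb : psi A B u f s 8 = B ^ 2 := by simp [psi, phi, dec]
  rcases h1 with (((h1 | h1) | h1) | h1) | ⟨k, hk, h1⟩
  · rw [h1, psi_zero]; exact one_mem _
  · rw [h1, ea]; exact a1
  · rw [h1, eb]; exact a2
  · rw [h1, psi_mul hconf, ea, eb]; exact mul_mem a1 a2
  · exfalso
    have hk' : k < 128 := by omega
    have key : ∀ y : G, psi A B u f s m = psi A B u f s k * y * (psi A B u f s k)⁻¹ →
        (y = u ∨ y = f ∨ y = f * u) → False := by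
      intro y hy hy'
      refine not_conj h hp hconf hy' (g := (psi A B u f s k)⁻¹ * g) ?_
      calc (psi A B u f s k)⁻¹ * g * p * ((psi A B u f s k)⁻¹ * g)⁻¹ =
            (psi A B u f s k)⁻¹ * (g * p * g⁻¹) * psi A B u f s k := by group
        _ = y := by rw [hg, hy]; group
    rcases h1 with (h1 | h1) | h1
    · refine key u ?_ (Or.inl rfl)
      rw [h1, psi_mul hconf, psi_mul hconf, psi_inv hconf hk', psi_u]
    · refine key f ?_ (Or.inr (Or.inl rfl))
      rw [h1, psi_mul hconf, psi_mul hconf, psi_inv hconf hk', psi_f]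
    · refine key (f * u) ?_ (Or.inr (Or.inr rfl))
      rw [h1, psi_mul hconf, psi_mul hconf, psi_mul hconf, psi_inv hconf hk', psi_f, psi_u]

/-- `⟨a, b, u⟩ ⊴ N_G(V)` -/
theorem le_normalizer_Wu {S P1 : Subgroup G} {A B u f s x : G} (hconf : Conf128 S P1 A B u f s x) :
    P1 ≤ normalizer (subWu hconf : Set G) := by
  have hA : A ∈ subWu hconf := ⟨1, by norm_num, by decide, psi_a _ _ _ _ _⟩
  have hB : B ∈ subWu hconf := ⟨4, by norm_num, by decide, psi_b _ _ _ _ _⟩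
  have hu : u ∈ subWu hconf := ⟨16, by norm_num, by decide, psi_u _ _ _ _ _⟩
  have hgen : ∀ X : Subgroup G, A ∈ X → B ∈ X → u ∈ X → subWu hconf ≤ X := by
    intro X h1 h2 h3
    rintro _ ⟨n, hn, hn1, rfl⟩
    simp only [isWu, Bool.and_eq_true, beq_iff_eq] at hn1
    have e3 : psi A B u f s n = A ^ (n % 4) * B ^ (n / 4 % 4) * u ^ (n / 16 % 2) := by
      simp only [psi, phi, dec, hn1.1, hn1.2, pow_zero, mul_one]
    rw [e3]
    exact mul_mem (mul_mem (pow_mem h1 _) (pow_mem h2 _)) (pow_mem h3 _)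
  have key : ∀ g : G, g * A * g⁻¹ ∈ subWu hconf → g * B * g⁻¹ ∈ subWu hconf → g * u * g⁻¹ ∈ subWu hconf →
      ∀ w ∈ subWu hconf, g * w * g⁻¹ ∈ subWu hconf := by
    intro g h1 h2 h3 w hw
    exact hgen ((subWu hconf).comap (MulAut.conj g).toMonoidHom) h1 h2 h3 hw
  -- the generators, all of finite order
  have hfin : Finite (subWu hconf) := by
    have : Nat.card (subWu hconf) ≠ 0 := by
      rw [subWu, card_sub]; decide +kernel
    exact Nat.finite_of_card_ne_zero this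
  have hN : ∀ g : G, g * A * g⁻¹ ∈ subWu hconf → g * B * g⁻¹ ∈ subWu hconf → g * u * g⁻¹ ∈ subWu hconf →
      g ∈ normalizer (subWu hconf : Set G) := by
    intro g h1 h2 h3
    have h4 : (subWu hconf).map (MulAut.conj g).toMonoidHom = subWu hconf := by
      refine eq_of_le_of_card_ge ?_ (le_of_eq (card_map_of_injective (MulAut.conj g).injective).symm)
      rintro _ ⟨w, hw, rfl⟩
      exact key g h1 h2 h3 w hw
    exact mem_normalizer_iff_map_conj_eq.mpr h4
  refine hconf.eqP.le.trans ?_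
  rw [closure_le]
  have hab := hconf.ab
  rintro g (rfl | rfl | rfl | rfl | rfl | rfl)
  · exact hN _ (by group; simpa using hA) (mul_mem (mul_mem hA hB) (inv_mem hA))
      (mul_mem (mul_mem hA hu) (inv_mem hA))
  · exact hN _ (mul_mem (mul_mem hB hA) (inv_mem hB)) (mul_mem (mul_mem hB hB) (inv_mem hB))
      (mul_mem (mul_mem hB hu) (inv_mem hB))
  · exact hN _ (mul_mem (mul_mem hu hA) (inv_mem hu)) (mul_mem (mul_mem hu hB) (inv_mem hu))
      (mul_mem (mul_mem hu hu) (inv_mem hu))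
  · refine hN _ ?_ ?_ ?_
    · rw [hconf.fa]; exact mul_mem hA (pow_mem hB _)
    · rw [hconf.fb]; exact mul_mem (pow_mem hA _) (inv_mem hB)
    · rw [hconf.fu, mul_inv_cancel_right]; exact hu
  · refine hN _ ?_ ?_ ?_
    · rw [hconf.sa]; exact hB
    · rw [hconf.sb]; exact hA
    · rw [hconf.su, mul_inv_cancel_right]; exact hu
  · refine hN _ ?_ ?_ ?_
    · rw [hconf.xa]; exact hB
    · rw [hconf.xb]; exact mul_mem (inv_mem hA) (inv_mem hB)
    · rw [hconf.xu, mul_inv_cancel_right]; exact hu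

theorem false128 [Finite G] (hs : IsSimpleGroup G) {V : Subgroup G}
    {U : G → Subgroup G} (h : NTri V U (fun x => centralizer ({x} : Set G))) {p : G} (hp : Pt V p)
    (T : Sylow 2 G) {A B u f s x : G} (hconf : Conf128 (T : Subgroup G) (normalizer (V : Set G)) A B u f s x)
    (a1 : A ^ 2 ∈ V) (a2 : B ^ 2 ∈ V) (a3 : A ^ 2 * B ^ 2 = p) (a4 : A ^ 2 ≠ 1) (a5 : B ^ 2 ≠ 1) : False := by
  have hf2 : Fact (Nat.Prime 2) := ⟨Nat.prime_two⟩
  have hfp : ∀ φ : G →* ℤˣ, φ f = 1 := by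
    intro φ
    rcases (MonoidHom.normal_ker φ).eq_bot_or_eq_top with h1 | h1
    · exfalso
      have h2 : Nat.card G ≤ Nat.card ℤˣ :=
        Nat.card_le_card_of_injective φ ((MonoidHom.ker_eq_bot_iff φ).mp h1)
      have h3 : Nat.card ℤˣ = 2 := by rw [Nat.card_eq_fintype_card]; rfl
      have h4 : Nat.card (T : Subgroup G) ≤ Nat.card G := card_le_card_group _
      rw [hconf.card] at h4
      omega
    · have h2 : f ∈ φ.ker := by rw [h1]; exact mem_top f
      exact h2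
  set E := subE hconf with hE
  have hEp : IsPGroup 2 E := IsPGroup.of_card (n := 4) (by rw [hE, card_E hconf]; norm_num)
  obtain ⟨g, hg1, hg2⟩ := SylowSp4.ExtTransfer.exists_extremal T (subM hconf) (M_le hconf)
    (relIndex_M hconf) f (by rw [← pow_two]; exact hconf.f2) hfp E hEp
    (fun r hr => E_comm hconf r hr f (f_mem_E hconf))
  have hgE : E.map (MulAut.conj g).toMonoidHom = E := by
    refine eq_E hconf ?_ ?_ ?_ ?_
    · rintro _ ⟨e, he, rfl⟩
      exact hg2 e he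
    · rintro _ ⟨e, he, rfl⟩ _ ⟨e', he', rfl⟩
      rw [← map_mul, ← map_mul, E_comm hconf e he e' he']
    · rintro _ ⟨e, he, rfl⟩
      rw [← map_mul, E_sq hconf e he, map_one]
    · rw [card_map_of_injective (MulAut.conj g).injective, hE, card_E hconf]
  have hgN : g ∈ normalizer (E : Set G) := mem_normalizer_iff_map_conj_eq.mpr hgE
  -- `g ∈ N_G(V)`
  have hq : Pt V (A ^ 2) := ⟨a1, a4⟩
  have hpq : p ≠ A ^ 2 := by
    intro e
    rw [← a3] at e
    exact a5 (mul_eq_left.mp e)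
  have hVE : V ≤ E := by
    intro v hv
    have hpE : p ∈ E := by rw [← a3]; exact mul_mem (aa_mem hconf) (bb_mem hconf)
    rcases h.mem_V hp hq hpq hv with e | e | e | e
    · rw [e]; exact one_mem _
    · rw [e]; exact hpE
    · rw [e]; exact aa_mem hconf
    · rw [e]; exact mul_mem hpE (aa_mem hconf)
  have hgV : V.map (MulAut.conj g).toMonoidHom = V := by
    have hVf : Finite V := inferInstance
    refine eq_of_le_of_card_ge ?_ (le_of_eq (card_map_of_injective (MulAut.conj g).injective).symm)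
    rintro _ ⟨v, hv, rfl⟩
    change g * v * g⁻¹ ∈ V
    by_cases hv1 : v = 1
    · rw [hv1, mul_one, mul_inv_cancel]; exact one_mem _
    obtain ⟨q', hq', hpq'⟩ := h.exists_other (⟨hv, hv1⟩ : Pt V v)
    obtain ⟨n, -, e1, -⟩ := h.sym p (A ^ 2) v q' hp hq hpq ⟨hv, hv1⟩ hq' hpq'
    refine mem_V_of_conj h hp hconf a1 a2 (g := g * n) (conj_mem_of_normalizer le_rfl hgN (hVE hv)) ?_
    rw [← e1]; group
  have hgNV : g ∈ normalizer (V : Set G) := mem_normalizer_iff_map_conj_eq.mpr hgV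
  have h1 : g * f * g⁻¹ ∈ subWu hconf := invQ_le hconf (inf_le_invQ hconf
    ⟨conj_mem_of_normalizer le_rfl hgN (f_mem_E hconf), hg1⟩)
  have h2 := conj_mem_of_normalizer' (le_normalizer_Wu hconf) hgNV h1
  have e : g⁻¹ * (g * f * g⁻¹) * g = f := by group
  rw [e] at h2
  exact f_notMem_Wu hconf h2

end C128

/-- **The natural block does not occur, K-free** (helper311 #13963, section 5). -/
theorem NTri.false_of_simple [Finite G] (hs : IsSimpleGroup G) (hc : IsCharacteristicTwoType G)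
    {V : Subgroup G} {U C : G → Subgroup G} (h : NTri V U C) {p : G} (hp : Pt V p) (T : Sylow 2 G)
    (hT : (T : Subgroup G) = normalizer (V : Set G) ⊓ centralizer ({p} : Set G))
    (hfull : ∀ c ∈ centralizer ({p} : Set G), ∀ v ∈ V, ∀ w ∈ V, c * v * c⁻¹ * w = w * (c * v * c⁻¹)) :
    False := by
  have h' := h.full hc hp hfull
  rcases h.exists_conf hp with ⟨A, B, u, s, x, hconf, a1, a2, a3, a4, a5, a6⟩ |
    ⟨A, B, u, f, s, x, hconf, a1, a2, a3, a4, a5, a6⟩
  · rw [← hT] at hconf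
    exact false64 hs hc h' hp T hconf a1 a3 a6
  · rw [← hT] at hconf
    exact false128 hs h' hp T hconf a1 a2 a3 a4 a5

end Cfsg.Agent.Omega.NO3S.Fit.MTri

end

section


/-!
# NO-3S, `q = 2`, `n = 1` (helper311's text #13963), section 5: `|W_z| = 8` (M12 types) is impossible

`Fam.ntri` : a family with `|W_z| = 8` is a structure `MTri.NTri V (ww V cf) cf`; `Fam.false_of_card_eight` : `False`, if `G`
is simple and the conjugates of `V` in `C_G(z)` commute.
-/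

set_option autoImplicit false
set_option linter.unusedSectionVars false

namespace Cfsg.Agent.Omega.NO3S.Fit

open Subgroup Cfsg Cfsg.Agent.ZN Cfsg.Agent.MinSimple.Geo Cfsg.Agent.Omega.CaseL
open Cfsg.Agent.ZN.Block (conj_mem_of_normalizer conj_mem_of_normalizer' le_normalizer_of_forall
  mem_normalizer_of card_mul_relIndex' mul_mem_of_relIndex_two)
open Cfsg.Agent.Classification.TitsFin.Tri (Pt kst)

universe u

variable {G : Type u} [Group G]

namespace Fam

variable {T V : Subgroup G} {z : G} {cf : G → Subgroup G}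

section MT

variable [Finite G] (h : Fam T V z cf)

include h

theorem card_ww {p : G} (hp : p ∈ V) (hp1 : p ≠ 1) : Nat.card (ww V cf p) = Nat.card (ww V cf z) := by
  obtain ⟨g, hg, rfl⟩ := h.ln.trans p hp hp1
  rw [← h.cj_ww hg h.ln.z_mem h.ln.z_ne, card_cj]

/-- `cf z` has characteristic 2 -/
theorem char2_cf : cf z ⊓ centralizer (o2 (cf z) : Set G) ≤ o2 (cf z) := by
  have hz2 : z ^ 2 = 1 := by rw [pow_two]; exact h.ln.zz
  have hc := MinSimple.Basic.char2_centralizer h.ln.charTwo hz2 h.ln.z_ne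
  have h1 : o2 (centralizer ({z} : Set G)) ≤ cf z := h.ln.o2_le_T.trans h.T_le_cf
  have hle : cf z ≤ centralizer ({z} : Set G) := h.le z h.ln.z_mem h.ln.z_ne
  have h2 : o2 (centralizer ({z} : Set G)) ≤ o2 (cf z) :=
    Block.le_o2 (Block.o2_isPGroup _) h1 (hle.trans (Block.le_normalizer_o2 _))
  rintro c ⟨hc1, hc2⟩
  refine h2 (hc ⟨hle hc1, ?_⟩)
  exact centralizer_le h2 hc2

/-- every normal 2-subgroup `≠ 1` of `N_G(V) ∩ C_G(z)` contains `z` -/
theorem soc_z {X : Subgroup G} (_ : X ≤ normalizer (V : Set G) ⊓ centralizer ({z} : Set G)) (hp : IsPGroup 2 X)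
    (hX1 : X ≠ ⊥) (hn : normalizer (V : Set G) ⊓ centralizer ({z} : Set G) ≤ normalizer (X : Set G)) : z ∈ X := by
  have h1 : T ≤ normalizer (X : Set G) := fun t ht => hn ⟨h.ln.T_norm ht, h.ln.T_le ht⟩
  exact h.ln.z_mem_of_le (h.le_T hp h1) h1 hX1

end MT

section three

variable [Finite G] (h : Fam T V z cf)

include h

theorem exists_notMem_V (h8 : Nat.card (ww V cf z) = 8) {p : G} (hp : p ∈ V) (hp1 : p ≠ 1) :
    V.relIndex (ww V cf p) = 2 := by
  have h1 := card_mul_relIndex' (h.V_le (p := p))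
  rw [h.ln.card_V, h.card_ww hp hp1, h8] at h1
  omega

/-- `I = V` -/
theorem jj_eq (h8 : Nat.card (ww V cf z) = 8) : jj V cf ≤ V := by
  have hz := h.ln.z_mem
  have hz1 := h.ln.z_ne
  intro u hu
  by_contra huV
  obtain ⟨y, hy, hy1, hyz⟩ := h.ln.exists_y
  obtain ⟨a, ha, b, hb, hab⟩ := h.nc' hz hz1 hy hy1 hyz
  apply hab
  -- `a ∈ W_y`
  have hle : ww V cf z ≤ ww V cf y := by
    intro a ha
    by_cases haV : a ∈ V
    · exact h.V_le haV
    have h1 := mul_mem_of_relIndex_two (h.exists_notMem_V h8 hz hz1) ha (jj_le hz hz1 hu) haV huV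
    have e : a = (a * u) * u⁻¹ := by group
    rw [e]
    exact mul_mem (h.V_le h1) (inv_mem (jj_le hy hy1 hu))
  exact h.comm hy hy1 a (hle ha) b hb

/-- the commutators -/
theorem comm_const (h8 : Nat.card (ww V cf z) = 8) {p q : G} (hp : p ∈ V) (hp1 : p ≠ 1) (hq : q ∈ V) (hq1 : q ≠ 1)
    (hqp : q ≠ p) : ∃ v ∈ V, v ≠ 1 ∧ ∀ a ∈ ww V cf p, a ∉ V → ∀ b ∈ ww V cf q, b ∉ V →
      a * b * a⁻¹ * b⁻¹ = v := by
  obtain ⟨a, ha, b, hb, hab⟩ := h.nc' hp hp1 hq hq1 hqp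
  have hcV : ∀ x ∈ ww V cf p, ∀ v ∈ V, v * x = x * v := fun x hx v hv => h.V_comm hv (h.ww_le_cent hp hp1 hx)
  have hcV' : ∀ x ∈ ww V cf q, ∀ v ∈ V, v * x = x * v := fun x hx v hv => h.V_comm hv (h.ww_le_cent hq hq1 hx)
  have haV : a ∉ V := fun haV => hab (hcV' b hb a haV)
  have hbV : b ∉ V := fun hbV => hab (hcV a ha b hbV).symm
  have hv : a * b * a⁻¹ * b⁻¹ ∈ V := h.jj_eq h8 (h.comm_mem_jj hp hp1 hq hq1 hqp ha hb)
  refine ⟨a * b * a⁻¹ * b⁻¹, hv, fun e => hab ?_, ?_⟩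
  · have : a * b = (a * b * a⁻¹ * b⁻¹) * (b * a) := by group
    rw [this, e, one_mul]
  intro a' ha' haV' b' hb' hbV'
  have h1 := mul_mem_of_relIndex_two (h.exists_notMem_V h8 hp hp1) ha' ha haV' haV
  have h2 := mul_mem_of_relIndex_two (h.exists_notMem_V h8 hq hq1) hb' hb hbV' hbV
  have hai := h.inv_ww hp hp1 ha
  have hbi := h.inv_ww hq hq1 hb
  set v := a' * a with hv1
  set w := b' * b with hw1
  have ea : a' = v * a := by
    calc a' = a' * a * a⁻¹ := by group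
      _ = v * a := by rw [hai]
  have eb : b' = w * b := by
    calc b' = b' * b * b⁻¹ := by group
      _ = w * b := by rw [hbi]
  have c1 := hcV a ha w h2
  have c2 := hcV' b hb v h1
  have c3 := hcV' b hb w h2
  have c4 := hcV a ha v h1
  have c5 := h.ln.comm h1 h2
  rw [ea, eb]
  calc v * a * (w * b) * (v * a)⁻¹ * (w * b)⁻¹ = v * (a * w) * b * a⁻¹ * (v⁻¹ * b⁻¹) * w⁻¹ := by group
    _ = v * (w * a) * b * a⁻¹ * (b * v)⁻¹ * w⁻¹ := by rw [← c1]; group
    _ = v * w * (a * b * a⁻¹ * b⁻¹) * v⁻¹ * w⁻¹ := by rw [← c2]; group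
    _ = (a * b * a⁻¹ * b⁻¹) * (v * w) * v⁻¹ * w⁻¹ := by rw [h.ln.comm (mul_mem h1 h2) hv]
    _ = (a * b * a⁻¹ * b⁻¹) * (w * v) * v⁻¹ * w⁻¹ := by rw [c5]
    _ = a * b * a⁻¹ * b⁻¹ := by group

/-- (A1): `[W_z ∖ V, W_y ∖ V] = z y` -/
theorem comm_eq8 (h8 : Nat.card (ww V cf z) = 8) {p q : G} (hp : p ∈ V) (hp1 : p ≠ 1) (hq : q ∈ V) (hq1 : q ≠ 1)
    (hqp : q ≠ p) {a b : G} (ha : a ∈ ww V cf p) (haV : a ∉ V) (hb : b ∈ ww V cf q) (hbV : b ∉ V) :
    a * b * a⁻¹ * b⁻¹ = p * q := by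
  obtain ⟨v, hv, hv1, hall⟩ := h.comm_const h8 hp hp1 hq hq1 hqp
  rw [hall a ha haV b hb hbV]
  obtain ⟨g, hg, g1, g2⟩ := h.trans2 hp hp1 hq hq1 hqp hq hq1 hp hp1 (Ne.symm hqp)
  have hgV : ∀ x, x ∉ V → g * x * g⁻¹ ∉ V := by
    intro x hx e
    apply hx
    have := h.conj_pt' hg e
    have e' : g⁻¹ * (g * x * g⁻¹) * g = x := by group
    rwa [e'] at this
  have h1 := h.conj_ww hg hp hp1 ha
  have h2 := h.conj_ww hg hq hq1 hb
  rw [g1] at h1
  rw [g2] at h2
  have h3 := hall _ h2 (hgV b hbV) _ h1 (hgV a haV)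
  have h4 : g * v * g⁻¹ = v := by
    have h5 : g * v * g⁻¹ = v⁻¹ := by
      calc g * v * g⁻¹ = g * (a * b * a⁻¹ * b⁻¹) * g⁻¹ := by rw [hall a ha haV b hb hbV]
        _ = (g * b * g⁻¹ * (g * a * g⁻¹) * (g * b * g⁻¹)⁻¹ * (g * a * g⁻¹)⁻¹)⁻¹ := by group
        _ = v⁻¹ := by rw [h3]
    rw [h5, h.ln.inv_eq hv]
  rcases h.ln.four hp hq hp1 hq1 (Ne.symm hqp) hv with e | e | e | e
  · exact absurd e hv1
  · rw [e, g1] at h4; exact absurd h4 hqp
  · rw [e, g2] at h4; exact absurd h4.symm hqp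
  · exact e

theorem three_z (h8 : Nat.card (ww V cf z) = 8) :
    ∃ f ∈ cf z, (∃ n : ℕ, f ^ 3 ^ n = 1) ∧ f ∉ kst (cf z) (ww V cf z) z := by
  have hz := h.ln.z_mem
  have hz1 := h.ln.z_ne
  obtain ⟨y, hy, hy1, hyz⟩ := h.ln.exists_y
  -- some `c` moves `V`
  obtain ⟨c, hc, hcV⟩ : ∃ c ∈ cf z, c * y * c⁻¹ ∉ V := by
    by_contra hcon
    push Not at hcon
    have hle : ww V cf z ≤ V := by
      refine wf_le fun c hc x hx => ?_
      rw [mem_cj] at hx
      have hcz : c * z * c⁻¹ = z := by rw [h.cf_comm hz hz1 hc, mul_inv_cancel_right]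
      have e : x = c * (c⁻¹ * x * c) * c⁻¹ := by group
      rw [e]
      rcases h.ln.four hz hy hz1 hy1 (Ne.symm hyz) hx with e1 | e1 | e1 | e1
      · rw [e1]; simp
      · rw [e1, hcz]; exact hz
      · rw [e1]; exact hcon c hc
      · rw [e1]
        have : c * (z * y) * c⁻¹ = (c * z * c⁻¹) * (c * y * c⁻¹) := by group
        rw [this, hcz]
        exact mul_mem hz (hcon c hc)
    have h1 := card_le_of_le hle
    rw [h8, h.ln.card_V] at h1
    omega
  have hcz := h.cf_comm hz hz1 hc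
  have hczc : c * z * c⁻¹ = z := by rw [hcz, mul_inv_cancel_right]
  have hczc' : c⁻¹ * z * c = z := by rw [mul_assoc, ← hcz, inv_mul_cancel_left]
  have hyW : y ∈ ww V cf z := h.V_le hy
  set w0 := c * y * c⁻¹ with hw0
  have hw0W : w0 ∈ ww V cf z := conj_mem_wf hc hyW
  set w1 := c⁻¹ * y * c with hw1
  have hw1W : w1 ∈ ww V cf z := by
    have := conj_mem_wf (inv_mem hc) hyW
    rwa [inv_inv] at this
  have hw1V : w1 ∉ V := by
    intro e
    -- `y = c w1 c⁻¹`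
    have e1 : y = c * w1 * c⁻¹ := by rw [hw1]; group
    rcases h.ln.four hz hy hz1 hy1 (Ne.symm hyz) e with e2 | e2 | e2 | e2
    · rw [e2] at e1; simp at e1; exact hy1 e1
    · rw [e2, hczc] at e1; exact hyz e1
    · apply hcV
      rw [e2] at e1
      rw [hw0, ← e1]; exact hy
    · apply hcV
      rw [e2] at e1
      have e3 : c * (z * y) * c⁻¹ = z * w0 := by
        calc c * (z * y) * c⁻¹ = (c * z * c⁻¹) * (c * y * c⁻¹) := by group
          _ = z * w0 := by rw [hczc]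
      rw [e3] at e1
      have e4 : w0 = z⁻¹ * y := by rw [e1]; group
      rw [e4]; exact mul_mem (inv_mem hz) hy
  -- `b ∈ W_y ∖ V`
  obtain ⟨b, hb, hbV⟩ : ∃ b ∈ ww V cf y, b ∉ V := by
    by_contra hcon
    push Not at hcon
    have h1 := card_le_of_le (show ww V cf y ≤ V from hcon)
    rw [h.card_ww hy hy1, h8, h.ln.card_V] at h1
    omega
  have hbz : b ∈ cf z := h.ww_le_cf' hy hy1 hz hz1 hb
  have hbc := h.ww_le_cent hy hy1 hb
  have hbV' : ∀ v ∈ V, b * v * b⁻¹ = v := fun v hv => by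
    rw [← h.V_comm hv hbc, mul_inv_cancel_right]
  have hbw : ∀ w ∈ ww V cf z, w ∉ V → b * w * b⁻¹ = (z * y) * w := by
    intro w hw hwV
    have h1 := h.comm_eq8 h8 hz hz1 hy hy1 hyz hw hwV hb hbV
    have hvi : (z * y)⁻¹ = z * y := h.ln.inv_eq (mul_mem hz hy)
    calc b * w * b⁻¹ = (w * b * w⁻¹ * b⁻¹)⁻¹ * w := by group
      _ = (z * y) * w := by rw [h1, hvi]
  have hcom := h.comm hz hz1
  have hsq := h.sqz
  have hyy := hsq y hyW
  have hzW : z ∈ ww V cf z := h.V_le hz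
  have hzz := h.ln.zz
  -- `b' = c b c⁻¹`
  have k1 : ∀ x : G, c * b * c⁻¹ * x * (c * b * c⁻¹)⁻¹ = c * (b * (c⁻¹ * x * c) * b⁻¹) * c⁻¹ := fun x => by group
  have b1 : c * b * c⁻¹ * y * (c * b * c⁻¹)⁻¹ = z * w0 * y := by
    rw [k1, ← hw1, hbw w1 hw1W hw1V]
    calc c * (z * y * w1) * c⁻¹ = (c * z * c⁻¹) * (c * y * c⁻¹) * (c * w1 * c⁻¹) := by group
      _ = z * w0 * y := by rw [hczc, ← hw0, hw1]; group
  have b2 : c * b * c⁻¹ * w0 * (c * b * c⁻¹)⁻¹ = w0 := by
    rw [k1]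
    have e : c⁻¹ * w0 * c = y := by rw [hw0]; group
    rw [e, hbV' y hy]
  have b3 : c * b * c⁻¹ * z * (c * b * c⁻¹)⁻¹ = z := by
    rw [k1, hczc', hbV' z hz, hczc]
  set f0 := b * (c * b * c⁻¹) with hf0
  have hf0C : f0 ∈ cf z := mul_mem hbz (mul_mem (mul_mem hc hbz) (inv_mem hc))
  have k2 : ∀ x : G, f0 * x * f0⁻¹ = b * (c * b * c⁻¹ * x * (c * b * c⁻¹)⁻¹) * b⁻¹ := fun x => by
    rw [hf0]; group
  have f1 : f0 * y * f0⁻¹ = w0 := by
    rw [k2, b1]
    calc b * (z * w0 * y) * b⁻¹ = (b * z * b⁻¹) * (b * w0 * b⁻¹) * (b * y * b⁻¹) := by group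
      _ = z * (z * y * w0) * y := by rw [hbV' z hz, hbV' y hy, hbw w0 hw0W hcV]
      _ = (z * z) * (y * w0) * y := by group
      _ = (w0 * y) * y := by rw [hzz, one_mul, hcom y hyW w0 hw0W]
      _ = w0 := by rw [mul_assoc, hyy, mul_one]
  have f2 : f0 * w0 * f0⁻¹ = z * y * w0 := by rw [k2, b2, hbw w0 hw0W hcV]
  have f3 : f0 * z * f0⁻¹ = z := by rw [k2, b3, hbV' z hz]
  have hw00 := hsq w0 hw0W
  have f4 : f0 * (z * y * w0) * f0⁻¹ = y := by
    calc f0 * (z * y * w0) * f0⁻¹ = (f0 * z * f0⁻¹) * (f0 * y * f0⁻¹) * (f0 * w0 * f0⁻¹) := by group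
      _ = z * w0 * (z * y * w0) := by rw [f1, f2, f3]
      _ = z * (w0 * z) * y * w0 := by group
      _ = z * (z * w0) * y * w0 := by rw [hcom w0 hw0W z hzW]
      _ = (z * z) * (w0 * y) * w0 := by group
      _ = (y * w0) * w0 := by rw [hzz, one_mul, hcom w0 hw0W y hyW]
      _ = y := by rw [mul_assoc, hw00, mul_one]
  have k3 : ∀ x : G, f0 ^ 3 * x * (f0 ^ 3)⁻¹ = f0 * (f0 * (f0 * x * f0⁻¹) * f0⁻¹) * f0⁻¹ := fun x => by
    rw [pow_succ, pow_two]; group
  -- `f0³` centralises `W_z`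
  have hcub : ∀ w ∈ ww V cf z, f0 ^ 3 * w * (f0 ^ 3)⁻¹ = w := by
    have g1 : f0 ^ 3 * y * (f0 ^ 3)⁻¹ = y := by rw [k3, f1, f2, f4]
    have g2 : f0 ^ 3 * w0 * (f0 ^ 3)⁻¹ = w0 := by rw [k3, f2, f4, f1]
    have g3 : f0 ^ 3 * z * (f0 ^ 3)⁻¹ = z := by rw [k3, f3, f3, f3]
    have g4 : ∀ v ∈ V, f0 ^ 3 * v * (f0 ^ 3)⁻¹ = v := by
      intro v hv
      rcases h.ln.four hz hy hz1 hy1 (Ne.symm hyz) hv with e | e | e | e
      · rw [e]; group
      · rw [e, g3]
      · rw [e, g1]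
      · rw [e]
        calc f0 ^ 3 * (z * y) * (f0 ^ 3)⁻¹ = (f0 ^ 3 * z * (f0 ^ 3)⁻¹) * (f0 ^ 3 * y * (f0 ^ 3)⁻¹) := by group
          _ = z * y := by rw [g3, g1]
    intro w hw
    by_cases hwV : w ∈ V
    · exact g4 w hwV
    have h1 := mul_mem_of_relIndex_two (h.exists_notMem_V h8 hz hz1) hw hw0W hwV hcV
    have e : w = (w * w0) * w0 := by rw [mul_assoc, hw00, mul_one]
    calc f0 ^ 3 * w * (f0 ^ 3)⁻¹ = f0 ^ 3 * ((w * w0) * w0) * (f0 ^ 3)⁻¹ := by rw [← e]
      _ = (f0 ^ 3 * (w * w0) * (f0 ^ 3)⁻¹) * (f0 ^ 3 * w0 * (f0 ^ 3)⁻¹) := by group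
      _ = w := by rw [g4 _ h1, g2, ← e]
  have hcubK : f0 ^ 3 ∈ kst (cf z) (ww V cf z) z := by
    refine ⟨pow_mem hf0C 3, h.cf_comm hz hz1 (pow_mem hf0C 3), fun w hw => ?_, fun w hw => ?_⟩
    · rw [hcub w hw, mul_inv_cancel]; exact one_mem _
    · have h1 := hcub w hw
      have e : (f0 ^ 3)⁻¹ * w * f0 ^ 3 = w := by
        calc (f0 ^ 3)⁻¹ * w * f0 ^ 3 = (f0 ^ 3)⁻¹ * (f0 ^ 3 * w * (f0 ^ 3)⁻¹) * f0 ^ 3 := by rw [h1]
          _ = w := by group
      rw [e, mul_inv_cancel]; exact one_mem _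
  have hf0K : f0 ∉ kst (cf z) (ww V cf z) z := by
    intro hK
    have h1 := hK.2.2.1 y hyW
    rw [f1] at h1
    apply hcV
    have e : w0 = (w0 * y⁻¹) * y := by group
    rw [e]
    refine mul_mem ?_ hy
    have : zpowers z ≤ V := by rw [zpowers_le]; exact hz
    exact this h1
  -- the 3-part
  have hpos : orderOf f0 ≠ 0 := (orderOf_pos f0).ne'
  obtain ⟨k, m, hm, hkm⟩ := Nat.exists_eq_pow_mul_and_not_dvd hpos 3 (by norm_num)
  refine ⟨f0 ^ m, pow_mem hf0C m, ⟨k, ?_⟩, fun hK => hf0K ?_⟩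
  · rw [← pow_mul, mul_comm, ← hkm, pow_orderOf_eq_one]
  · have hcop : Nat.Coprime 3 m := (Nat.Prime.coprime_iff_not_dvd (by norm_num)).mpr hm
    have hb := Nat.gcd_eq_gcd_ab 3 m
    rw [hcop.gcd_eq_one] at hb
    have e : f0 = (f0 ^ 3) ^ (Nat.gcdA 3 m) * (f0 ^ m) ^ (Nat.gcdB 3 m) := by
      have h1 : f0 ^ ((1 : ℕ) : ℤ) = f0 := by simp
      conv_lhs => rw [← h1, hb, zpow_add, zpow_mul, zpow_mul]
      simp [zpow_natCast]
    rw [e]
    exact mul_mem (zpow_mem hcubK _) (zpow_mem hK _)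

/-- `|W_z| = 8`: the structure `NTri` -/
theorem ntri (h8 : Nat.card (ww V cf z) = 8) : MTri.NTri V (ww V cf) cf where
  cardV := h.ln.card_V
  sqV := h.ln.sq
  cardU := fun p hp => by rw [h.card_ww hp.1 hp.2, h8]
  sqU := fun p hp => h.sq hp.1 hp.2
  V_le := fun _ _ => h.V_le
  C_le := fun p hp => h.le p hp.1 hp.2
  C_norm := fun _ _ => h.cf_norm
  le_C := fun p hp => h.ge p hp.1 hp.2
  sym := fun p q p' q' hp hq hpq hp' hq' hpq' =>
    h.trans2 hp.1 hp.2 hq.1 hq.2 (Ne.symm hpq) hp'.1 hp'.2 hq'.1 hq'.2 (Ne.symm hpq')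
  conjU := fun n hn p hp => h.cj_ww hn hp.1 hp.2
  conjC := fun n hn p hp => h.cj_cf n hn p hp.1 hp.2
  three := fun p hp => by
    obtain ⟨g, hg, rfl, h'⟩ := h.point hp.1 hp.2
    refine h'.three_z ?_
    rw [h.card_ww hp.1 hp.2, h8]
  nc := fun p q hp hq hpq => h.nc' hp.1 hp.2 hq.1 hq.2 (Ne.symm hpq)
  nl := fun R hR hN hC => h.nl hR hN (hC z ⟨h.ln.z_mem, h.ln.z_ne⟩)
  char2 := fun p hp => by
    obtain ⟨g, hg, rfl, h'⟩ := h.point hp.1 hp.2
    exact h'.char2_cf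
  soc := fun p hp X hX h2 hX1 hn => by
    obtain ⟨g, hg, rfl, h'⟩ := h.point hp.1 hp.2
    exact h'.soc_z hX h2 hX1 hn

/-- **Section 5**: `|W_z| = 8` is impossible. -/
theorem false_of_card_eight (hs : IsSimpleGroup G) (h8 : Nat.card (ww V cf z) = 8)
    (hfull : ∀ c ∈ centralizer ({z} : Set G), ∀ v ∈ V, ∀ w ∈ V, c * v * c⁻¹ * w = w * (c * v * c⁻¹)) : False := by
  have : Fact (Nat.Prime 2) := ⟨Nat.prime_two⟩
  have hN := h.ntri h8
  have hp : Pt V z := ⟨h.ln.z_mem, h.ln.z_ne⟩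
  obtain ⟨y, hy, hy1, hyz⟩ := h.ln.exists_y
  -- `N_G(V) ∩ C_G(z)` is a 2-group
  have h2 : IsPGroup 2 ↥(normalizer (V : Set G) ⊓ centralizer ({z} : Set G)) := by
    rintro ⟨n, hn1, hn2⟩
    have hnz : n * z * n⁻¹ = z := by
      rw [mem_centralizer_singleton_iff.mp hn2, mul_inv_cancel_right]
    have hnn : n * n ∈ centralizer (V : Set G) := by
      rcases hN.fix_or_swap (hN.tr hp (⟨hy, hy1⟩ : Pt V y) (Ne.symm hyz)) hn1 hnz with ⟨e, -, -⟩ | ⟨e1, e2⟩
      · exact mul_mem e e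
      · refine h.mem_centralizer_of h.ln.z_mem h.ln.z_ne hy hy1 hyz ?_ ?_
        · have := h.ln.z_comm hn2
          rw [mul_assoc, this, ← mul_assoc, this, mul_assoc]
        · have e3 : n * n * y * (n * n)⁻¹ = y := by
            calc n * n * y * (n * n)⁻¹ = n * (n * y * n⁻¹) * n⁻¹ := by group
              _ = y := by rw [e1, e2]
          exact mul_inv_eq_iff_eq_mul.mp e3
    obtain ⟨k, hk⟩ := hN.isPGroup_centV' hp ⟨n * n, hnn⟩
    refine ⟨k + 1, Subtype.ext ?_⟩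
    have hk' : (n * n) ^ 2 ^ k = 1 := congrArg Subtype.val hk
    change n ^ 2 ^ (k + 1) = 1
    rw [pow_succ', pow_mul, pow_two, hk']
  have hTle : T ≤ normalizer (V : Set G) ⊓ centralizer ({z} : Set G) := le_inf h.ln.T_norm h.ln.T_le
  let P : Sylow 2 G := ⟨T, h.ln.two, fun {Q} hQ hTQ => le_antisymm (h.T_max hQ hTQ) hTQ⟩
  exact hN.false_of_simple hs h.ln.charTwo hp P (le_antisymm hTle (h.T_max h2 hTle)) hfull

end three

end Fam

end Cfsg.Agent.Omega.NO3S.Fit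

end

end

-- merged: Cfsg.Agent.Mrg.Omega.NO3S.Fit.Ctxt
section

/-!
# NO-3S, `q = 2`, `n = 1` (helper311's text #13963): the module context of the family (`k = 1`), the subfamilies, the case M12

* `Fam.ctx` : `Abs.Ctx (R.pi y) (R.phi w) (R.img T)`, `w ∈ W_y - Q_z`;
* `Fam.subfam` : the subfamily of `K` if some `m ∈ ⟨v0^K⟩` has `a m - m ∉ {0, v0}`;
* `Fam.m12_false` : (M12) is impossible.
-/

set_option autoImplicit false
set_option linter.unusedSectionVars false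

namespace Cfsg.Agent.Omega.NO3S.Fit

open Subgroup Cfsg Cfsg.Agent.ZN Cfsg.Agent.MinSimple.Geo Cfsg.Agent.Omega.CaseL
open Cfsg.Agent.ZN.Block (conj_mem_of_normalizer conj_mem_of_normalizer' le_normalizer_of_forall
  mem_normalizer_of)

universe u

variable {G : Type u} [Group G] {T V : Subgroup G} {z : G} {cf : G → Subgroup G}
variable {M H : Type u} [AddCommGroup M] [Group H] [DistribMulAction H M]

theorem spn_eq_sp (K : Subgroup H) (v : M) : spn K v = Abs.sp K v := by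
  unfold spn Abs.sp
  congr 1
  ext m
  constructor
  · rintro ⟨k, rfl⟩
    exact ⟨k, k.2, rfl⟩
  · rintro ⟨k, hk, rfl⟩
    exact ⟨⟨k, hk⟩, rfl⟩

namespace Fam

/-- **the module context** -/
theorem ctx [Finite G] [Finite M] [FaithfulSMul H M] (h : Fam T V z cf) (hk : One1 V cf)
    (R : MRep V cf z M H) {y : G} (hy : y ∈ V) (hy1 : y ≠ 1) (hyz : y ≠ z) {w : G} (hw : w ∈ ww V cf y)
    (hwz : w ∉ qq V cf z) : Abs.Ctx (R.pi y) (R.phi w) (R.img T) where
  two := R.two h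
  ne := R.v0_ne h hy hy1 hyz
  span := R.span h hy hy1 hyz
  sq := R.sq_A h hy hy1 hw
  a1 := R.phi_ne_one (h.ww_le_cf' hy hy1 h.ln.z_mem h.ln.z_ne hw) hwz
  fix := R.A_v0 h hy hy1 hy hw
  cen := fun _ hx => R.cen_A h hk hy hy1 hyz hw hx
  T2 := R.img_T_two h
  Ti := R.img_T_index h
  T0 := fun _ ht => R.img_T_fix h hy hy1 hyz ht
  FIX := by
    rintro m ⟨n, rfl⟩ hm0 hT
    exact (R.fix_A h hy hy1 hyz hy hy1 hyz hw hT).resolve_left hm0
  le4 := by
    classical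
    obtain ⟨u0, hu⟩ := R.br_cases h hk hy hy1 hyz hw
    have h1 : ((Abs.br M (R.phi w) : AddSubgroup M) : Set M) ⊆
        (({0, R.pi y, u0, u0 + R.pi y} : Finset M) : Set M) := by
      rintro m ⟨n, rfl⟩
      simp only [Finset.coe_insert, Finset.coe_singleton, Set.mem_insert_iff, Set.mem_singleton_iff]
      exact hu n
    have h2 := Set.ncard_le_ncard h1 (Set.toFinite _)
    rw [Set.ncard_coe_finset] at h2
    exact h2.trans Finset.card_le_four
  pl := by
    intro h4 f hf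
    obtain ⟨c, hc, rfl⟩ := R.phi_surj f
    refine h.plane hk R hy hy1 hyz hw hwz ?_ hc hf
    by_contra hcon
    push Not at hcon
    have h1 : ((Abs.br M (R.phi w) : AddSubgroup M) : Set M) ⊆ {0, R.pi y} := by
      rintro m ⟨n, rfl⟩
      by_cases h0 : R.phi w • n - n = 0
      · exact Or.inl h0
      · exact Or.inr (hcon n h0)
    have h2 := Set.ncard_le_ncard h1 (Set.toFinite _)
    have h3 : ({0, R.pi y} : Set M).ncard ≤ 2 := by
      refine (Set.ncard_insert_le _ _).trans ?_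
      rw [Set.ncard_singleton]
    have h5 : ((Abs.br M (R.phi w) : AddSubgroup M) : Set M).ncard = 4 := h4
    omega

theorem cm_ne [Finite G] (h : Fam T V z cf) (R : MRep V cf z M H) {y : G} (hy : y ∈ V) (hy1 : y ≠ 1)
    {w u : G} (hw : w ∈ ww V cf y) (hu : u ∈ ww V cf z) (hne : R.phi w • R.pi u ≠ R.pi u) :
    u * w * u⁻¹ * w⁻¹ ≠ 1 ∧ u * w * u⁻¹ * w⁻¹ ≠ z := by
  have hz := h.ln.z_mem
  have hz1 := h.ln.z_ne
  have hwc := h.ww_le_cf' hy hy1 hz hz1 hw
  have h1 := R.comm_eq h hwc hu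
  have h2 : R.pi (w * u * w⁻¹ * u⁻¹) ≠ 0 := by
    rw [← h1]; exact sub_ne_zero.mpr hne
  have h3 : w * u * w⁻¹ * u⁻¹ ∈ ww V cf z := mul_mem (conj_mem_wf hwc hu) (inv_mem hu)
  have e : u * w * u⁻¹ * w⁻¹ = (w * u * w⁻¹ * u⁻¹)⁻¹ := by group
  constructor
  · intro e1
    apply h2
    rw [R.pi_ker _ h3]
    left
    rw [e] at e1
    exact inv_eq_one.mp e1
  · intro e1
    apply h2
    rw [R.pi_ker _ h3]
    right
    rw [e] at e1
    rw [← inv_inv (w * u * w⁻¹ * u⁻¹), e1]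
    exact h.ln.inv_eq hz

/-- **the subfamily of `K`** -/
theorem subfam [Finite G] (h : Fam T V z cf) (hk : One1 V cf)
    (R : MRep V cf z M H) {y : G} (hy : y ∈ V) (hy1 : y ≠ 1) (hyz : y ≠ z) {w : G} (hw : w ∈ ww V cf y)
    {K : Subgroup H} (hK : ∀ x : H, x • R.pi y = R.pi y → x ∈ K)
    (hm : ∃ m ∈ spn K (R.pi y), R.phi w • m - m ≠ 0 ∧ R.phi w • m - m ≠ R.pi y) :
    Fam T V z (subf V z (R.pre K)) := by
  obtain ⟨m, hm, hm0, hmv⟩ := hm
  obtain ⟨u, hu, rfl⟩ := R.pi_surj m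
  have hu' : u ∈ wf V (R.pre K) := (R.mem_wf_pre h hy hy1 hyz K).mpr ⟨hu, hm⟩
  refine h.sub_of hk (R.le_pre h hy hy1 hyz hK) (R.pre_le K) hy hy1 hyz ⟨u, hu', fun huq => ?_⟩
    ⟨u, hu', w, hw, h.cm_ne R hy hy1 hw hu (sub_ne_zero.mp hm0)⟩
  rcases R.br_one h hy hy1 hw hu huq with e | e
  · exact hm0 e
  · exact hmv e

/-- the hyperplane `(W_z ∩ Q_y)/z` of `M` -/
theorem exists_hyp [Finite G] (h : Fam T V z cf) (hk : One1 V cf)
    (R : MRep V cf z M H) {y : G} (hy : y ∈ V) (hy1 : y ≠ 1) (hyz : y ≠ z) :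
    ∃ N : AddSubgroup M, N.index = 2 ∧ R.pi y ∈ N ∧ (∀ x : H, x • R.pi y = R.pi y → ∀ m ∈ N, x • m ∈ N) ∧
      ∀ u ∈ ww V cf z, (R.pi u ∈ N ↔ u ∈ qq V cf y) := by
  have hz := h.ln.z_mem
  have hz1 := h.ln.z_ne
  let N : AddSubgroup M :=
    { carrier := {m | ∃ u ∈ ww V cf z, u ∈ qq V cf y ∧ R.pi u = m}
      zero_mem' := ⟨1, one_mem _, one_mem _, R.pi_one h⟩
      add_mem' := by
        rintro _ _ ⟨a, ha, ha1, rfl⟩ ⟨b, hb, hb1, rfl⟩
        exact ⟨a * b, mul_mem ha hb, mul_mem ha1 hb1, R.pi_mul a ha b hb⟩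
      neg_mem' := by
        rintro _ ⟨a, ha, ha1, rfl⟩
        exact ⟨a⁻¹, inv_mem ha, inv_mem ha1, R.pi_inv h ha⟩ }
  have hzq : z ∈ qq V cf y := h.kk_le_qq hy hy1 (h.V_le_kk hy hy1 hz)
  have hN : ∀ u ∈ ww V cf z, (R.pi u ∈ N ↔ u ∈ qq V cf y) := by
    intro u hu
    constructor
    · rintro ⟨u', hu', hu1', e⟩
      rcases (R.pi_eq h hu' hu).mp e with e | e
      · rw [← e]; exact hu1'
      · have : u = z * u' := by rw [e, ← mul_assoc, h.ln.zz, one_mul]
        rw [this]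
        exact mul_mem hzq hu1'
    · intro hq
      exact ⟨u, hu, hq, rfl⟩
  refine ⟨N, ?_, ?_, ?_, hN⟩
  · obtain ⟨w0, hw0, hw0q⟩ := h.exists_not_qq hz hz1 hy hy1 hyz
    rw [AddSubgroup.index_eq_two_iff]
    refine ⟨R.pi w0, fun b => ?_⟩
    obtain ⟨u, hu, rfl⟩ := R.pi_surj b
    rw [← R.pi_mul u hu w0 hw0, hN _ (mul_mem hu hw0), hN _ hu]
    by_cases huq : u ∈ qq V cf y
    · right
      refine ⟨huq, fun e => hw0q ?_⟩
      have := mul_mem (inv_mem huq) e
      rwa [inv_mul_cancel_left] at this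
    · left
      exact ⟨hk z hz hz1 y hy hy1 hyz u hu w0 hw0 huq hw0q, huq⟩
  · exact (hN y (h.V_le hy)).mpr (h.kk_le_qq hy hy1 (h.V_le_kk hy hy1 hy))
  · rintro x hx _ ⟨u, hu, huq, rfl⟩
    obtain ⟨d, hd, rfl⟩ := R.stab h hy hy1 hyz hx
    have hdc := h.cent_le_cf hz hz1 hd
    rw [R.act d hdc u hu]
    refine (hN _ (conj_mem_wf hdc hu)).mpr ?_
    exact conj_mem_of_normalizer (h.cf_norm_qq hy hy1) (h.cent_le_cf hy hy1 hd) huq

/-- **(M12) is impossible** -/
theorem m12_false [Finite G] [Finite M] [Finite H] [FaithfulSMul H M] (h : Fam T V z cf) (hk : One1 V cf)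
    (R : MRep V cf z M H) {y : G} (hy : y ∈ V) (hy1 : y ≠ 1) (hyz : y ≠ z) {w : G} (hw : w ∈ ww V cf y)
    {d : H} (K : Abs.Ctx.M12 (R.pi y) (R.phi w) d) (hs : IsSimpleGroup G)
    (hfull : ∀ c ∈ centralizer ({z} : Set G), ∀ v ∈ V, ∀ w ∈ V, c * v * c⁻¹ * w = w * (c * v * c⁻¹)) : False := by
  have hz := h.ln.z_mem
  have hz1 := h.ln.z_ne
  have two : ∀ m : M, m + m = 0 := R.two h
  have hav : R.phi w • R.pi y = R.pi y := R.A_v0 h hy hy1 hy hw
  set D := Abs.cyc (R.pi y) d K.nor' with hD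
  have hK : ∀ x : H, x • R.pi y = R.pi y → x ∈ D := fun x hx => Abs.stab_le_cyc K.nor' hx
  have hsp : spn D (R.pi y) = Abs.br M d := by
    rw [spn_eq_sp, Abs.sp_cyc, K.sp_eq two]
  -- `u` over `d • v0`
  obtain ⟨u, hu, e⟩ := R.pi_surj (d • R.pi y)
  have hu' : u ∈ wf V (R.pre D) := by
    refine (R.mem_wf_pre h hy hy1 hyz D).mpr ⟨hu, ?_⟩
    rw [e]
    exact smul_mem_spn' (Abs.self_mem_cyc K.nor') (R.pi y)
  have hd3 : d⁻¹ • R.pi y ≠ d • R.pi y := by
    intro e1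
    have h1 : d ^ 2 • R.pi y = R.pi y := by
      rw [pow_two, mul_smul, ← e1, smul_inv_smul]
    have h2 : d ^ 3 • R.pi y = d • R.pi y := by
      rw [pow_succ', mul_smul, h1]
    rw [K.cube, one_smul] at h2
    exact K.ne h2.symm
  have hau : R.phi w • d • R.pi y = d⁻¹ • R.pi y := by
    have h1 : R.phi w * d = d⁻¹ * R.phi w := by rw [← K.inv]; group
    rw [← mul_smul, h1, mul_smul, hav]
  obtain ⟨N, hN1, hN2, hN3, hN4⟩ := h.exists_hyp hk R hy hy1 hyz
  have hNe : N = Abs.fx M (R.phi w) := K.hyp N hN1 hN2 hN3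
  have huq : u ∉ qq V cf y := by
    intro huq
    have h1 := (hN4 u hu).mpr huq
    rw [hNe, e] at h1
    have h2 : R.phi w • d • R.pi y = d • R.pi y := h1
    rw [hau] at h2
    exact hd3 h2
  have h' : Fam T V z (subf V z (R.pre D)) := by
    refine h.sub_of hk (R.le_pre h hy hy1 hyz hK) (R.pre_le D) hy hy1 hyz ⟨u, hu', huq⟩
      ⟨u, hu', w, hw, h.cm_ne R hy hy1 hw hu ?_⟩
    rw [e, hau]
    exact hd3
  obtain ⟨M', H', _, _, _, _, _, _, ⟨R'⟩⟩ := h'.exists_mrep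
  obtain ⟨θ, κ, c⟩ := exists_cmp R h hy hy1 hyz hK R' h'
  refine h'.false_of_card_eight hs ?_ hfull
  rw [R'.card_ww h', c.card, hsp, K.card]

end Fam

end Cfsg.Agent.Omega.NO3S.Fit

end

-- merged: Cfsg.Agent.Mrg.Omega.NO3S.Fit.FiveTri
section

/-!
# NO-3S, `q = 2`, `n = 1` (helper311's text #13963), section 4 for the type `T5`

A family of the type `T5` (`|M| = 16`, `H = ⟨d⟩ Stab(v0)`, `d` of order 5) is a configuration `TitsAmal.Tri`, with the
absence of `N_G(V)`-fixed involutions (`Fam.no_fix`) in place of `C p = C_G(p)`.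

* `MRep.tri_five` : `Tri V (ww V cf) cf`;
* `MRep.card_kk_five` : `|K_z| ≤ 64` (in fact 32 or 64);
* `MRep.kk_inf_five`, `MRep.card_jj_five` : `K_z ∩ K_y = E`, `|E| = 8`.
-/

set_option autoImplicit false
set_option linter.unusedSectionVars false

namespace Cfsg.Agent.Omega.NO3S.Fit

open Subgroup Cfsg Cfsg.Agent.ZN Cfsg.Agent.MinSimple.Geo Cfsg.Agent.Omega.CaseL
open Cfsg.Agent.Omega.TitsAmal.Tri (Pt kst cj_kst)
open Cfsg.Agent.Omega.TitsAmal (Tri)
open Cfsg.Agent.ZN.Block (conj_mem_of_normalizer conj_mem_of_normalizer' le_normalizer_of_forall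
  mem_normalizer_of)

universe u

namespace Abs

variable {H M : Type*} [Group H] [AddCommGroup M] [DistribMulAction H M]

/-- `|H|` is 10 or 20 -/
theorem card_ten_or_twenty [Finite M] [Finite H] [FaithfulSMul H M] (two : ∀ m : M, m + m = 0)
    (hM : Nat.card M = 16) {a d : H} (ha : a * a = 1) (ha1 : a ≠ 1) (hd : d ^ 5 = 1) (hd1 : d ≠ 1)
    {v0 : M} (hv0 : v0 ≠ 0) (gen : ∀ x : H, ∃ i : ℕ, ∃ h0 : H, h0 • v0 = v0 ∧ x = d ^ i * h0)
    (nd : ∀ h0 : H, h0 • v0 = v0 → ∃ i : ℕ, h0 * d * h0⁻¹ = d ^ i) :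
    Nat.card H = 10 ∨ Nat.card H = 20 := by
  classical
  have hod : orderOf d = 5 := by
    have h1 : orderOf d ∣ 5 := orderOf_dvd_of_pow_eq_one hd
    rcases (Nat.dvd_prime (by norm_num)).mp h1 with e | e
    · exact absurd (orderOf_eq_one_iff.mp e) hd1
    · exact e
  have hDn : (zpowers d).Normal := by
    refine ⟨fun x hx g => ?_⟩
    obtain ⟨n, rfl⟩ := mem_zpowers_iff.mp hx
    obtain ⟨i, h0, hh, rfl⟩ := gen g
    obtain ⟨j, hj⟩ := nd h0 hh
    have e : d ^ i * h0 * d ^ n * (d ^ i * h0)⁻¹ = d ^ i * (h0 * d * h0⁻¹) ^ n * (d ^ i)⁻¹ := by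
      rw [conj_zpow]; group
    rw [e, hj]
    exact mul_mem (mul_mem (pow_mem (mem_zpowers d) _) (zpow_mem (pow_mem (mem_zpowers d) _) _))
      (inv_mem (pow_mem (mem_zpowers d) _))
  let φ : H →* MulAut (zpowers d) := MulAut.conjNormal
  have hker : φ.ker = zpowers d := by
    ext x
    rw [MonoidHom.mem_ker]
    constructor
    · intro hx
      have h1 : x * d * x⁻¹ = d := by
        have := congrArg (fun f : MulAut (zpowers d) => ((f ⟨d, mem_zpowers d⟩ : zpowers d) : H)) hx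
        simpa [φ] using this
      obtain ⟨i, h0, hh, rfl⟩ := gen x
      have h2 : h0 * d = d * h0 := by
        have h3 : d ^ i * h0 * d = d * (d ^ i * h0) := mul_inv_eq_iff_eq_mul.mp h1
        have h4 : d ^ i * (h0 * d) = d ^ i * (d * h0) := by
          rw [← mul_assoc, h3, ← mul_assoc, ← mul_assoc, ← pow_succ, ← pow_succ']
        exact mul_left_cancel h4
      rw [cent_semireg two hd hd1 hM h2 hh hv0, mul_one]
      exact pow_mem (mem_zpowers d) _
    · intro hx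
      obtain ⟨n, rfl⟩ := mem_zpowers_iff.mp hx
      ext ⟨y, hy⟩
      obtain ⟨m, rfl⟩ := mem_zpowers_iff.mp hy
      change d ^ n * d ^ m * (d ^ n)⁻¹ = d ^ m
      rw [← zpow_add, add_comm, zpow_add, mul_inv_cancel_right]
  have h1 : Nat.card φ.range ∣ 4 := by
    have h2 : Nat.card (MulAut (zpowers d)) = 4 := by
      rw [IsCyclic.card_mulAut, Nat.card_zpowers, hod]; decide
    rw [← h2]
    exact Subgroup.card_subgroup_dvd_card _
  have h3 := φ.ker.card_mul_index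
  rw [index_ker, hker, Nat.card_zpowers, hod] at h3
  have h4 : 2 ∣ Nat.card H := by
    have h5 : orderOf a = 2 := orderOf_eq_prime (by rw [pow_two]; exact ha) ha1
    rw [← h5]; exact orderOf_dvd_natCard a
  have h6 := Nat.le_of_dvd (by norm_num) h1
  have h7 : 0 < Nat.card φ.range := Nat.card_pos
  interval_cases h8 : Nat.card φ.range
  · omega
  · left; omega
  · omega
  · right; omega

end Abs

variable {G : Type u} [Group G] {T V : Subgroup G} {z : G} {cf : G → Subgroup G}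
variable {M H : Type u} [AddCommGroup M] [Group H] [DistribMulAction H M]

/-- `Q_p` as `kst` -/
theorem Fam.kst_eq (_ : Fam T V z cf) (p : G) :
    kst (cf p) (ww V cf p) p = qq V cf p := by
  ext c
  constructor
  · rintro ⟨h0, h1, h2, -⟩
    exact ⟨h0, h1, h2⟩
  · intro hc
    have hci := inv_mem hc
    refine ⟨hc.1, hc.2.1, hc.2.2, fun w hw => ?_⟩
    have := hci.2.2 w hw
    rwa [inv_inv] at this

namespace MRep

variable [Finite G] [Finite M] [Finite H] [FaithfulSMul H M] (R : MRep V cf z M H)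
    (h : Fam T V z cf) {y : G} (hy : y ∈ V) (hy1 : y ≠ 1) (hyz : y ≠ z)
    (card : Nat.card M = 16) {d : H} (d5 : d ^ 5 = 1) (fd : ∀ m : M, d • m = m → m = 0)
    (gen : ∀ x : H, ∃ i : ℕ, ∃ h0 : H, h0 • R.pi y = R.pi y ∧ x = d ^ i * h0)
    (nd : ∀ h0 : H, h0 • R.pi y = R.pi y → ∃ i : ℕ, h0 * d * h0⁻¹ = d ^ i)

include h

include R in
/-- `|C_z / Q_z| = |H|` -/
theorem relIndex_qq : (qq V cf z).relIndex (cf z) = Nat.card H := by
  have h1 : R.hom.ker = (qq V cf z).subgroupOf (cf z) := by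
    ext c
    rw [MonoidHom.mem_ker, mem_subgroupOf]
    exact R.phi_ker c c.2
  rw [relIndex, ← h1, index_ker, MonoidHom.range_eq_top.mpr (R.hom_surj h), Subgroup.card_top]

include hy hy1 hyz card d5 fd gen nd

theorem card_H_five : Nat.card H = 10 ∨ Nat.card H = 20 := by
  have hz := h.ln.z_mem
  have hz1 := h.ln.z_ne
  have hv0 : R.pi y ≠ 0 := R.v0_ne h hy hy1 hyz
  have hd1 : d ≠ 1 := by
    rintro rfl
    exact hv0 (fd _ (one_smul _ _))
  obtain ⟨w, hw, hwz⟩ := h.exists_not_qq hy hy1 hz hz1 (Ne.symm hyz)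
  have hwc := h.ww_le_cf' hy hy1 hz hz1 hw
  refine Abs.card_ten_or_twenty (R.two h) card (R.sq_A h hy hy1 hw) (fun e => hwz ((R.phi_ker w hwc).mp e))
    d5 hd1 hv0 gen nd

/-- **a family of the type `T5` is a configuration `Tri`** -/
theorem tri_five : Tri V (ww V cf) cf where
  cardV := h.ln.card_V
  sqV := h.ln.sq
  cardU p hp := by
    obtain ⟨g, hg, rfl, -⟩ := h.point hp.1 hp.2
    rw [← h.cj_ww hg h.ln.z_mem h.ln.z_ne, card_cj, R.card_ww h, card]
  sqU p hp := h.sq hp.1 hp.2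
  V_le p _ := h.V_le
  C_le p hp := h.le p hp.1 hp.2
  C_norm p _ := h.cf_norm
  le_C p hp := h.ge p hp.1 hp.2
  sym p q p' q' hp hq hpq hp' hq' hpq' :=
    h.trans2 hp.1 hp.2 hq.1 hq.2 (Ne.symm hpq) hp'.1 hp'.2 hq'.1 hq'.2 (Ne.symm hpq')
  conjU n hn p hp := h.cj_ww hn hp.1 hp.2
  conjC n hn p hp := h.cj_cf n hn p hp.1 hp.2
  idx p hp := by
    obtain ⟨g, hg, rfl, -⟩ := h.point hp.1 hp.2
    rw [h.kst_eq _, ← h.cj_qq hg h.ln.z_mem h.ln.z_ne, ← h.cj_cf g hg z h.ln.z_mem h.ln.z_ne,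
      relIndex_cj, R.relIndex_qq h]
    exact R.card_H_five h hy hy1 hyz card d5 fd gen nd
  nc p q hp hq hpq := h.nc' hp.1 hp.2 hq.1 hq.2 (Ne.symm hpq)
  nonloc p hp A hA h1 h2 := by
    obtain ⟨g, hg, rfl, h'⟩ := h.point hp.1 hp.2
    exact h'.nl hA h2 h1
  alt := Or.inl fun f _ hf2 hf => h.no_fix hf2 hf
  char2 p hp := h.char2 hp.1 hp.2

/-- **`|K_z| ≤ 64`** -/
theorem card_kk_five : Nat.card (kk V cf z) ≤ 64 := by
  have ht := R.tri_five h hy hy1 hyz card d5 fd gen nd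
  rcases Cfsg.Agent.Omega.TitsAmal.TriTen.card_K ht ⟨h.ln.z_mem, h.ln.z_ne⟩ with e | e
  · exact e.le.trans (by norm_num)
  · exact e.le

theorem kk_inf_five : kk V cf z ⊓ kk V cf y ≤ jj V cf := by
  have ht := R.tri_five h hy hy1 hyz card d5 fd gen nd
  have h1 := Cfsg.Agent.Omega.TitsAmal.TriTen.K_inf_K ht ⟨h.ln.z_mem, h.ln.z_ne⟩ ⟨hy, hy1⟩ (Ne.symm hyz)
  intro x hx
  have hx' : x ∈ ww V cf z ⊓ ww V cf y := by rw [← h1]; exact hx
  exact h.mem_jj h.ln.z_mem h.ln.z_ne hy hy1 hyz hx'.1 hx'.2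

theorem card_jj_five : Nat.card (jj V cf) = 8 := by
  have ht := R.tri_five h hy hy1 hyz card d5 fd gen nd
  have h1 := Cfsg.Agent.Omega.TitsAmal.TriAct.card_E ht ⟨h.ln.z_mem, h.ln.z_ne⟩ ⟨hy, hy1⟩ (Ne.symm hyz)
  have h2 : jj V cf = ww V cf z ⊓ ww V cf y := by
    refine le_antisymm (le_inf (Fam.jj_le h.ln.z_mem h.ln.z_ne) (Fam.jj_le hy hy1)) fun x hx => ?_
    exact h.mem_jj h.ln.z_mem h.ln.z_ne hy hy1 hyz hx.1 hx.2
  rw [h2]
  exact h1

end MRep

end Cfsg.Agent.Omega.NO3S.Fit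

end

-- merged: Cfsg.Agent.Mrg.Omega.NO3S.Fit.GlueFive
section

section


/-!
# NO-3S, `q = 2`, `n = 1` (helper311's text #13963): the case T5, from the module to the Tits group

* `Cmp.down` : the comparison of a subfamily as helper204's `Abs.Down`;
* `Fam.five_glue` : the output (T5) of the main theorem of section 3 for the full family ⟹ known.
-/

set_option autoImplicit false
set_option linter.unusedSectionVars false

namespace Cfsg.Agent.Omega.NO3S.Fit

open Subgroup Cfsg Cfsg.Agent.ZN Cfsg.Agent.MinSimple.Geo Cfsg.Agent.Omega.CaseL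
open Cfsg.Agent.ZN.Block (conj_mem_of_normalizer conj_mem_of_normalizer' le_normalizer_of_forall
  mem_normalizer_of)

universe u

variable {G : Type u} [Group G] {T V : Subgroup G} {z : G} {cf : G → Subgroup G}
variable {M H M' H' : Type u} [AddCommGroup M] [Group H] [DistribMulAction H M]
  [AddCommGroup M'] [Group H'] [DistribMulAction H' M']

open Classical in
/-- the comparison as `Abs.Down` -/
noncomputable def Cmp.down {R : MRep V cf z M H} {y : G} {K : Subgroup H}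
    {R' : MRep V (subf V z (R.pre K)) z M' H'} {θ : M' →+ M} {κ : K →* H'} (c : Cmp R y K R' θ κ)
    {D : AddSubgroup M} (hD : spn K (R.pi y) = D) : Abs.Down K D H' M' where
  io := θ
  rho := fun x => if hx : x ∈ K then κ ⟨x, hx⟩ else 1
  io_add := map_add θ
  io_inj := c.inj
  io_mem := fun m => hD ▸ c.mem_range m
  io_surj := fun m hm => (c.range m).mpr (hD ▸ hm)
  rho_mul := by
    intro g hg h hh
    rw [dif_pos hg, dif_pos hh, dif_pos (mul_mem hg hh), ← map_mul]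
    rfl
  rho_surj := by
    intro x
    obtain ⟨k, rfl⟩ := c.surj x
    exact ⟨k, k.2, by rw [dif_pos k.2]⟩
  act := by
    intro h hh m
    rw [dif_pos hh, c.act]

theorem Cmp.down_io {R : MRep V cf z M H} {y : G} {K : Subgroup H}
    {R' : MRep V (subf V z (R.pre K)) z M' H'} {θ : M' →+ M} {κ : K →* H'} (c : Cmp R y K R' θ κ)
    {D : AddSubgroup M} (hD : spn K (R.pi y) = D) : (c.down hD).io = θ := rfl

theorem Cmp.down_rho {R : MRep V cf z M H} {y : G} {K : Subgroup H}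
    {R' : MRep V (subf V z (R.pre K)) z M' H'} {θ : M' →+ M} {κ : K →* H'} (c : Cmp R y K R' θ κ)
    {D : AddSubgroup M} (hD : spn K (R.pi y) = D) {g : G} (hg : g ∈ R.pre K) :
    (c.down hD).rho (R.phi g) = R'.phi g := by
  have h1 := (R.mem_pre.mp hg).2
  have h2 : (c.down hD).rho (R.phi g) = κ ⟨R.phi g, h1⟩ := dif_pos h1
  rw [h2]
  exact c.phi g hg

namespace Fam

/-- **the case T5** -/
theorem five_glue [Finite G] [Finite M] [Finite H] [FaithfulSMul H M] (h : Fam T V z cfull)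
    (hk : One1 V cfull) (R : MRep V cfull z M H) {y : G} (hy : y ∈ V) (hy1 : y ≠ 1) (hyz : y ≠ z) {w : G}
    (hw : w ∈ ww V cfull y) (hwz : w ∉ qq V cfull z) (h4 : Nat.card (Abs.br M (R.phi w)) = 4)
    {p : ℕ} (hp : p.Prime) {F : Subgroup H} (hFn : F.Normal) (hF : IsPGroup p F) {d : H}
    (hC : Abs.Cyc M (R.phi w) F d) (K : Abs.T5 (R.pi y) (R.phi w) d) (hs : IsSimpleGroup G) :
    IsKnownSimple' G := by
  have hz := h.ln.z_mem
  have hz1 := h.ln.z_ne
  have ctx := h.ctx hk R hy hy1 hyz hw hwz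
  set D := Abs.cyc (R.pi y) d K.nor with hDd
  have hK : ∀ x : H, x • R.pi y = R.pi y → x ∈ D := fun x hx => Abs.stab_le_cyc K.nor hx
  have hsp : spn D (R.pi y) = Abs.br M d := by rw [spn_eq_sp, K.sp_eq]
  have hodd : Odd (orderOf d) := K.odd
  have hd1 : d ≠ 1 := by
    rintro rfl
    exact K.ne (one_smul _ _)
  -- `p = 5`
  have hod : orderOf d = 5 := by
    rcases (Nat.dvd_prime (by norm_num)).mp (orderOf_dvd_of_pow_eq_one K.five) with e | e
    · exact absurd (orderOf_eq_one_iff.mp e) hd1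
    · exact e
  have hp5 : p = 5 := by
    have hfact : Fact p.Prime := ⟨hp⟩
    obtain ⟨k, hk'⟩ := IsPGroup.iff_orderOf.mp hF ⟨d, hC.mem⟩
    rw [Subgroup.orderOf_mk, hod] at hk'
    have h1 : (5 : ℕ).Prime := by norm_num
    rw [hk'] at h1
    exact ((Nat.Prime.pow_eq_iff (by norm_num : Nat.Prime 5)).mp hk'.symm).1
  subst hp5
  -- the subfamily
  have h' : Fam T V z (subf V z (R.pre D)) := by
    refine h.subfam hk R hy hy1 hyz hw hK ?_
    obtain ⟨b, hb, hb0, hbv⟩ := Abs.exists_ne_ne_of_card h4 (u := R.pi y)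
    have hb' : b ∈ Abs.cx M (R.phi w) d := by rw [K.cxe]; exact hb
    obtain ⟨n, hn, e⟩ := Abs.cx_le_br ctx.two ctx.sq hodd K.inv hb'
    refine ⟨n, by rw [hsp]; exact hn, ?_, ?_⟩
    · rw [e]; exact hb0
    · rw [e]; exact hbv
  obtain ⟨M', H', _, _, _, _, _, _, ⟨R'⟩⟩ := h'.exists_mrep
  obtain ⟨θ, κ, c⟩ := exists_cmp R h hy hy1 hyz hK R' h'
  have E5 := K.fiveA ctx hDd (c.down hsp) (v0' := R'.pi y) (c.pi_y hy)
  have h64 : Nat.card (kk V (subf V z (R.pre D)) z) ≤ 64 :=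
    R'.card_kk_five h' hy hy1 hyz E5.card E5.d5 E5.fd E5.gen E5.nd
  have hFd : ∀ f ∈ F, f * d * f⁻¹ ∈ zpowers d := by
    intro f hf
    have : f * d * f⁻¹ = d := by rw [hC.cen f hf]; group
    rw [this]; exact mem_zpowers d
  have h2 : ∃ x : H, x * d * x⁻¹ = d ^ 2 := by
    obtain ⟨x, -, hx⟩ := K.frob
    exact ⟨x, hx⟩
  exact h.five_known R hy hy1 hyz ctx.sq K.five K.inv K.card (K.le ctx.v0_mem) hC.mem hF hFn hFd h2
    (ctx.pl h4) (R.le_pre h hy hy1 hyz hK) (R.pre_le D) h64 (index_ne_two hs h.ln.card_V)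

end Fam

end Cfsg.Agent.Omega.NO3S.Fit

end

section


/-!
# NO-3S, `q = 2`, `n = 1` (helper311's text #13963): the case T9, from the module to the subfamily

`Fam.nine_data` : the output (T9) of the main theorem of section 3 for a family gives the subfamily of `H1` with its representation
`R'`, the data `NineA`, and `R'.phi u = a'` for every `u ∈ W'_y - Q'_z`.
-/

set_option autoImplicit false
set_option linter.unusedSectionVars false

namespace Cfsg.Agent.Omega.NO3S.Fit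

open Subgroup Cfsg Cfsg.Agent.ZN Cfsg.Agent.MinSimple.Geo Cfsg.Agent.Omega.CaseL
open Cfsg.Agent.ZN.Block (conj_mem_of_normalizer conj_mem_of_normalizer' le_normalizer_of_forall
  mem_normalizer_of)

universe u

variable {G : Type u} [Group G] {T V : Subgroup G} {z : G} {cf : G → Subgroup G}
variable {M H : Type u} [AddCommGroup M] [Group H] [DistribMulAction H M]

namespace Fam

theorem subf_le (h : Fam T V z cf) {C : Subgroup G}
    (hC : normalizer (V : Set G) ⊓ centralizer ({z} : Set G) ≤ C) (hC' : C ≤ cf z) {p : G} (hp : p ∈ V)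
    (hp1 : p ≠ 1) : subf V z C p ≤ cf p := by
  obtain ⟨g, hg, rfl⟩ := h.ln.trans p hp hp1
  rw [subf_eq hC hg, ← h.cj_cf g hg z h.ln.z_mem h.ln.z_ne]
  exact cj_mono hC'

theorem ww_subf_le (h : Fam T V z cf) {C : Subgroup G}
    (hC : normalizer (V : Set G) ⊓ centralizer ({z} : Set G) ≤ C) (hC' : C ≤ cf z) {p : G} (hp : p ∈ V)
    (hp1 : p ≠ 1) : ww V (subf V z C) p ≤ ww V cf p := wf_mono (h.subf_le hC hC' hp hp1)

/-- `Q_z ∩ C ≤ Q'_z` -/
theorem mem_qq_subf (h : Fam T V z cf) {C : Subgroup G}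
    (hC : normalizer (V : Set G) ⊓ centralizer ({z} : Set G) ≤ C) (hC' : C ≤ cf z) {u : G} (hu : u ∈ C)
    (huq : u ∈ qq V cf z) : u ∈ qq V (subf V z C) z := by
  refine ⟨by rw [subf_z hC]; exact hu, huq.2.1, fun w hw => huq.2.2 w ?_⟩
  exact h.ww_subf_le hC hC' h.ln.z_mem h.ln.z_ne hw

/-- `R'.phi u = ρ(a)` for `u ∈ W'_y - Q'_z` -/
theorem phi_subf [Finite G] (h : Fam T V z cf) (hk : One1 V cf) (R : MRep V cf z M H) {y : G} (hy : y ∈ V)
    (hy1 : y ≠ 1) (hyz : y ≠ z) {w : G} (hw : w ∈ ww V cf y) (hwz : w ∉ qq V cf z) {C : Subgroup G}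
    (hC : normalizer (V : Set G) ⊓ centralizer ({z} : Set G) ≤ C) (hC' : C ≤ cf z) {u : G}
    (hu : u ∈ ww V (subf V z C) y) (huz : u ∉ qq V (subf V z C) z) :
    u ∈ C ∧ R.phi u = R.phi w := by
  have hz := h.ln.z_mem
  have hz1 := h.ln.z_ne
  have huy := h.ww_subf_le hC hC' hy hy1 hu
  have hucV := h.ww_le_cent hy hy1 huy
  have huC : u ∈ C := hC (mem_inf.mpr ⟨centralizer_le_normalizer _ hucV, h.cent_le_cs hz hucV⟩)
  refine ⟨huC, ?_⟩
  have huq : u ∉ qq V cf z := fun e => huz (h.mem_qq_subf hC hC' huC e)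
  have h1 := hk y hy hy1 z hz hz1 (Ne.symm hyz) u huy w hw huq hwz
  have huc := hC' huC
  have hwc := h.ww_le_cf' hy hy1 hz hz1 hw
  have h2 : R.phi u * R.phi w = 1 := by
    rw [← R.phi_mul u huc w hwc]
    exact (R.phi_ker _ (mul_mem huc hwc)).mpr h1
  have h3 := R.sq_A h hy hy1 hw
  calc R.phi u = R.phi u * (R.phi w * R.phi w) := by rw [h3, mul_one]
    _ = R.phi w := by rw [← mul_assoc, h2, one_mul]

/-- **the data of the case T9** -/
theorem nine_data [Finite G] [Finite M] [Finite H] [FaithfulSMul H M] (h : Fam T V z cf)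
    (hk : One1 V cf) (R : MRep V cf z M H) {y : G} (hy : y ∈ V) (hy1 : y ≠ 1) (hyz : y ≠ z) {w : G}
    (hw : w ∈ ww V cf y) (hwz : w ∉ qq V cf z) {H1 : Subgroup H} {d1 d2 : H} {b1 b2 : M}
    (K : Abs.T9 (R.pi y) (R.phi w) (R.img T) H1 d1 d2 b1 b2) :
    Fam T V z (subf V z (R.pre H1)) ∧
    ∃ (M' H' : Type u) (_ : AddCommGroup M') (_ : Finite M') (_ : Group H') (_ : Finite H')
      (_ : DistribMulAction H' M') (_ : FaithfulSMul H' M') (R' : MRep V (subf V z (R.pre H1)) z M' H')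
      (a' d1' d2' : H') (b1' b2' : M'), Abs.NineA (R'.pi y) a' d1' d2' b1' b2' ∧
        ∀ u ∈ ww V (subf V z (R.pre H1)) y, u ∉ qq V (subf V z (R.pre H1)) z → R'.phi u = a' := by
  have hz := h.ln.z_mem
  have hz1 := h.ln.z_ne
  have ctx := h.ctx hk R hy hy1 hyz hw hwz
  have hK : ∀ x : H, x • R.pi y = R.pi y → x ∈ H1 := K.stab_le
  have hsp : spn H1 (R.pi y) = Abs.sp H1 (R.pi y) := spn_eq_sp _ _
  have h' : Fam T V z (subf V z (R.pre H1)) := by
    refine h.subfam hk R hy hy1 hyz hw hK ⟨d1 • b1, ?_, ?_, ?_⟩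
    · rw [hsp, K.sp_eq ctx.two]
      exact AddSubgroup.mem_sup_left (Abs.smul_mem_blk' d1 b1)
    · rw [K.a1, K.d11, add_sub_cancel_right]
      exact K.b10
    · rw [K.a1, K.d11, add_sub_cancel_right]
      intro e
      apply K.b20
      have h1 := K.sum
      rw [e] at h1
      exact add_eq_left.mp h1
  refine ⟨h', ?_⟩
  obtain ⟨M', H', i1, i2, i3, i4, i5, i6, ⟨R'⟩⟩ := h'.exists_mrep
  obtain ⟨θ, κ, c⟩ := exists_cmp R h hy hy1 hyz hK R' h'
  obtain ⟨d1', d2', b1', b2', hN⟩ := K.nineA ctx (c.down hsp) (v0' := R'.pi y) (c.pi_y hy)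
  refine ⟨M', H', i1, i2, i3, i4, i5, i6, R', (c.down hsp).rho (R.phi w), d1', d2', b1', b2', hN, ?_⟩
  intro u hu huz
  obtain ⟨h1, h2⟩ := h.phi_subf hk R hy hy1 hyz hw hwz (R.le_pre h hy hy1 hyz hK) (R.pre_le H1) hu huz
  rw [← c.down_rho hsp h1, h2]

end Fam

end Cfsg.Agent.Omega.NO3S.Fit

end

section


/-!
# Text #13963 (helper311), section 4: the common shape of T5 and T9, module facts

`Shp R y P d`: `|M| = 16`, `P ⊴ H` has odd order and is inverted by the image of `W_y`, `C_M(d) = 0` for some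
`d ∈ P`, `H = P · Stab(v0)` and `Stab(v0)` is a 2-group.
-/

set_option autoImplicit false
set_option linter.unusedSectionVars false

namespace Cfsg.Agent.Omega.NO3S.Fit

open Subgroup Cfsg Cfsg.Agent.ZN Cfsg.Agent.MinSimple.Geo Cfsg.Agent.Omega.CaseL
open Cfsg.Agent.Omega.NO3S.Fit.PlaneForm (cm cm_eq_one cm_inv)
open Cfsg.Agent.Omega.NO3S.Fit.Abs (br fx cx)
open Cfsg.Agent.ZN.Block (conj_mem_of_normalizer conj_mem_of_normalizer' le_normalizer_of_forall
  mem_normalizer_of)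

universe u

variable {G : Type u} [Group G]

/-- the common shape of T5 and T9 -/
structure Shp {V : Subgroup G} {cf : G → Subgroup G} {z : G} {M H : Type u} [AddCommGroup M] [Group H]
    [DistribMulAction H M] (R : MRep V cf z M H) (y : G) (P : Subgroup H) (d : H) : Prop where
  card : Nat.card M = 16
  dP : d ∈ P
  fd : ∀ m : M, d • m = m → m = 0
  odd : Odd (Nat.card P)
  nor : ∀ x : H, ∀ p ∈ P, x * p * x⁻¹ ∈ P
  inv : ∀ a ∈ ww V cf y, a ∉ qq V cf z → ∀ p ∈ P, R.phi a * p * (R.phi a)⁻¹ = p⁻¹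
  gen : ∀ x : H, ∃ p ∈ P, ∃ h0 : H, h0 • R.pi y = R.pi y ∧ x = p * h0
  two : ∀ h0 : H, h0 • R.pi y = R.pi y → ∃ k : ℕ, h0 ^ 2 ^ k = 1

/-! ### Conjugation by `N_G(V)` -/

section conj

variable {T V : Subgroup G} {z : G} {cf : G → Subgroup G}

theorem Fam.mem_ww_conj (h : Fam T V z cf) {g p x : G} (hg : g ∈ normalizer (V : Set G)) (hp : p ∈ V)
    (hp1 : p ≠ 1) : x ∈ ww V cf (g * p * g⁻¹) ↔ g⁻¹ * x * g ∈ ww V cf p := by
  rw [← h.cj_ww hg hp hp1, mem_cj]

theorem Fam.mem_cf_conj (h : Fam T V z cf) {g p x : G} (hg : g ∈ normalizer (V : Set G)) (hp : p ∈ V)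
    (hp1 : p ≠ 1) : x ∈ cf (g * p * g⁻¹) ↔ g⁻¹ * x * g ∈ cf p := by
  rw [← h.cj_cf g hg p hp hp1, mem_cj]

theorem Fam.mem_qq_conj (h : Fam T V z cf) {g p x : G} (hg : g ∈ normalizer (V : Set G)) (hp : p ∈ V)
    (hp1 : p ≠ 1) : x ∈ qq V cf (g * p * g⁻¹) ↔ g⁻¹ * x * g ∈ qq V cf p := by
  rw [← h.cj_qq hg hp hp1, mem_cj]

/-- the module at `g z g⁻¹` -/
def MRep.cjr {M H : Type u} [AddCommGroup M] [Group H] [DistribMulAction H M] (R : MRep V cf z M H)
    (h : Fam T V z cf) {g : G} (hg : g ∈ normalizer (V : Set G)) : MRep V cf (g * z * g⁻¹) M H where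
  pi x := R.pi (g⁻¹ * x * g)
  phi x := R.phi (g⁻¹ * x * g)
  pi_mul := by
    intro a ha b hb
    rw [h.mem_ww_conj hg h.ln.z_mem h.ln.z_ne] at ha hb
    rw [← R.pi_mul _ ha _ hb]
    congr 1; group
  pi_surj := by
    intro m
    obtain ⟨w, hw, rfl⟩ := R.pi_surj m
    refine ⟨g * w * g⁻¹, ?_, ?_⟩
    · rw [h.mem_ww_conj hg h.ln.z_mem h.ln.z_ne]
      have : g⁻¹ * (g * w * g⁻¹) * g = w := by group
      rwa [this]
    · congr 1; group
  pi_ker := by
    intro w hw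
    rw [h.mem_ww_conj hg h.ln.z_mem h.ln.z_ne] at hw
    rw [R.pi_ker _ hw]
    constructor
    · rintro (e | e)
      · left
        have : w = g * (g⁻¹ * w * g) * g⁻¹ := by group
        rw [this, e]; group
      · right
        rw [← e]; group
    · rintro (e | e)
      · left; rw [e]; group
      · right; rw [e]; group
  phi_mul := by
    intro a ha b hb
    rw [h.mem_cf_conj hg h.ln.z_mem h.ln.z_ne] at ha hb
    rw [← R.phi_mul _ ha _ hb]
    congr 1; group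
  phi_surj := by
    intro x
    obtain ⟨w, hw, rfl⟩ := R.phi_surj x
    refine ⟨g * w * g⁻¹, ?_, ?_⟩
    · rw [h.mem_cf_conj hg h.ln.z_mem h.ln.z_ne]
      have : g⁻¹ * (g * w * g⁻¹) * g = w := by group
      rwa [this]
    · congr 1; group
  phi_ker := by
    intro c hc
    rw [h.mem_cf_conj hg h.ln.z_mem h.ln.z_ne] at hc
    rw [h.mem_qq_conj hg h.ln.z_mem h.ln.z_ne, R.phi_ker _ hc]
  act := by
    intro c hc w hw
    rw [h.mem_cf_conj hg h.ln.z_mem h.ln.z_ne] at hc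
    rw [h.mem_ww_conj hg h.ln.z_mem h.ln.z_ne] at hw
    rw [R.act _ hc _ hw]
    congr 1; group

theorem MRep.cjr_pi {M H : Type u} [AddCommGroup M] [Group H] [DistribMulAction H M] (R : MRep V cf z M H)
    (h : Fam T V z cf) {g : G} (hg : g ∈ normalizer (V : Set G)) (x : G) :
    (R.cjr h hg).pi x = R.pi (g⁻¹ * x * g) := rfl

theorem MRep.cjr_phi {M H : Type u} [AddCommGroup M] [Group H] [DistribMulAction H M] (R : MRep V cf z M H)
    (h : Fam T V z cf) {g : G} (hg : g ∈ normalizer (V : Set G)) (x : G) :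
    (R.cjr h hg).phi x = R.phi (g⁻¹ * x * g) := rfl

theorem Shp.cjs {M H : Type u} [AddCommGroup M] [Group H] [DistribMulAction H M] {R : MRep V cf z M H}
    {y : G} {P : Subgroup H} {d : H} (S : Shp R y P d) (h : Fam T V z cf) (hy : y ∈ V) (hy1 : y ≠ 1) {g : G}
    (hg : g ∈ normalizer (V : Set G)) : Shp (R.cjr h hg) (g * y * g⁻¹) P d := by
  have e : g⁻¹ * (g * y * g⁻¹) * g = y := by group
  refine
    { card := S.card, dP := S.dP, fd := S.fd, odd := S.odd, nor := S.nor, inv := ?_, gen := ?_, two := ?_ }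
  · intro a ha haQ p hp
    rw [h.mem_ww_conj hg hy hy1] at ha
    rw [h.mem_qq_conj hg h.ln.z_mem h.ln.z_ne] at haQ
    exact S.inv _ ha haQ p hp
  · intro x
    obtain ⟨p, hp, h0, h1, h2⟩ := S.gen x
    refine ⟨p, hp, h0, ?_, h2⟩
    rw [R.cjr_pi h hg, e]
    exact h1
  · intro h0 h1
    rw [R.cjr_pi h hg, e] at h1
    exact S.two h0 h1

/-- the situation of section 4 -/
structure Dat (T V : Subgroup G) (z : G) (cf : G → Subgroup G) (y : G) : Prop where
  fam : Fam T V z cf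
  hy : y ∈ V
  hy1 : y ≠ 1
  hyz : y ≠ z
  shp : ∃ (M H : Type u) (_ : AddCommGroup M) (_ : Group H) (_ : DistribMulAction H M)
    (_ : FaithfulSMul H M) (R : MRep V cf z M H) (P : Subgroup H) (d : H), Shp R y P d

/-- the same at every pair of points -/
theorem Dat.at {y : G} (D : Dat T V z cf y) {p q : G} (hp : p ∈ V) (hp1 : p ≠ 1) (hq : q ∈ V) (hq1 : q ≠ 1)
    (hqp : q ≠ p) : ∃ T', Dat T' V p cf q := by
  have h := D.fam
  obtain ⟨g, hg, e1, e2⟩ := h.trans2 h.ln.z_mem h.ln.z_ne D.hy D.hy1 D.hyz hp hp1 hq hq1 hqp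
  obtain ⟨M, H, _, _, _, _, R, P, d, S⟩ := D.shp
  subst e1
  subst e2
  exact ⟨cj g T, h.conj hg, hq, hq1, hqp, M, H, _, _, _, ‹_›, R.cjr h hg, P, d, S.cjs h D.hy D.hy1 hg⟩

end conj

/-! ### Module facts -/

section module

variable {T V : Subgroup G} {z : G} {cf : G → Subgroup G} {M H : Type u} [AddCommGroup M] [Group H]
  [DistribMulAction H M] {R : MRep V cf z M H} {y : G} {P : Subgroup H} {d : H}

namespace Shp

theorem finM (S : Shp R y P d) : Finite M := Nat.finite_of_card_ne_zero (by rw [S.card]; decide)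

theorem odd_of (S : Shp R y P d) {p : H} (hp : p ∈ P) : Odd (orderOf p) := by
  have h1 : orderOf p ∣ Nat.card P := by
    have := orderOf_dvd_natCard (⟨p, hp⟩ : P)
    rwa [Subgroup.orderOf_mk] at this
  exact S.odd.of_dvd_nat h1

variable [Finite G] (S : Shp R y P d) (h : Fam T V z cf) (hy : y ∈ V) (hy1 : y ≠ 1) (hyz : y ≠ z)
include S h hy hy1 hyz

/-- `k = 1` -/
theorem one1 [FaithfulSMul H M] : Fam.One1 V cf := by
  have hz := h.ln.z_mem
  have hz1 := h.ln.z_ne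
  refine h.one1_of hy hy1 hz hz1 (Ne.symm hyz) fun w hw w' hw' hwQ hwQ' => ?_
  have hwc := h.ww_le_cf' hy hy1 hz hz1 hw
  have hwc' := h.ww_le_cf' hy hy1 hz hz1 hw'
  have hww : w * w' ∈ ww V cf y := mul_mem hw hw'
  have hwwc := h.ww_le_cf' hy hy1 hz hz1 hww
  have two := R.two h
  rw [← R.phi_ker _ hwwc]
  have hcd : R.phi (w * w') * d = d * R.phi (w * w') := by
    have e1 := S.inv w hw hwQ d S.dP
    have e2 := S.inv w' hw' hwQ' d S.dP
    rw [R.phi_mul w hwc w' hwc']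
    have e3 : R.phi w * R.phi w' * d * (R.phi w * R.phi w')⁻¹ = d := by
      calc R.phi w * R.phi w' * d * (R.phi w * R.phi w')⁻¹ =
            R.phi w * (R.phi w' * d * (R.phi w')⁻¹) * (R.phi w)⁻¹ := by group
        _ = (R.phi w * d * (R.phi w)⁻¹)⁻¹ := by rw [e2]; group
        _ = d := by rw [e1, inv_inv]
    exact mul_inv_eq_iff_eq_mul.mp e3
  have hdo := S.odd_of S.dP
  refine FaithfulSMul.eq_of_smul_eq_smul (α := M) fun m => ?_
  rw [one_smul]
  -- `n := c m - m` is fixed by `w`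
  have hq : ∀ m : M, R.phi w • (R.phi (w * w') • m - m) = R.phi (w * w') • m - m := by
    intro m
    obtain ⟨v, hv, rfl⟩ := R.pi_surj m
    exact R.quad h hy hy1 hyz hw hww hv
  set n := R.phi (w * w') • m - m with hn
  have h1 : d • n = R.phi (w * w') • (d • m) - d • m := by
    rw [hn, smul_sub, ← mul_smul, ← hcd, mul_smul]
  have h2 := hq (d • m)
  rw [← h1] at h2
  have h3 : R.phi w • d • n = d⁻¹ • n := Abs.inv_smul_of_inv (S.inv w hw hwQ d S.dP) (hq m)
  have h4 : d • d • n = n := by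
    rw [← h2, h3, smul_inv_smul]
  have h5 := S.fd n (Abs.fix_of_sq hdo h4)
  exact sub_eq_zero.mp h5

theorem br_top : br M d = ⊤ := by
  have h1 := Abs.sup_br_fx (M := M) (R.two h) (S.odd_of S.dP)
  have h2 : fx M d = ⊥ := by
    rw [eq_bot_iff]
    intro m hm
    rw [AddSubgroup.mem_bot]
    exact S.fd m hm
  rwa [h2, sup_bot_eq] at h1

section a

variable {a : G} (ha : a ∈ ww V cf y) (haQ : a ∉ qq V cf z)
include ha haQ

theorem aa : R.phi a * R.phi a = 1 := R.sq_A h hy hy1 ha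

theorem card_fx : Nat.card (fx M (R.phi a)) = 4 := by
  have := S.finM
  have h1 := (Abs.card_br_eq (M := M) (R.two h) (S.aa h hy hy1 hyz ha haQ) (S.odd_of S.dP) (S.inv a ha haQ d S.dP)).1
  have h2 : cx M (R.phi a) d = fx M (R.phi a) := by
    unfold cx
    rw [S.br_top h hy hy1 hyz, top_inf_eq]
  rw [h2, S.br_top h hy hy1 hyz] at h1
  have h3 : Nat.card (⊤ : AddSubgroup M) = 16 := by
    rw [← S.card]
    exact Nat.card_congr AddSubgroup.topEquiv.toEquiv
  rw [h3] at h1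
  nlinarith

/-- `C_M(a) ≤ [M, a]` -/
theorem exists_of_fx {m : M} (hm : R.phi a • m = m) : ∃ n : M, R.phi a • n - n = m := by
  have := S.finM
  have h2 : m ∈ cx M (R.phi a) d := by
    refine ⟨?_, hm⟩
    rw [S.br_top h hy hy1 hyz]
    trivial
  obtain ⟨n, -, e⟩ := Abs.cx_le_br (M := M) (R.two h) (S.aa h hy hy1 hyz ha haQ) (S.odd_of S.dP) (S.inv a ha haQ d S.dP) h2
  exact ⟨n, e⟩

/-- (F2) -/
theorem mem_jj_of {w : G} (hw : w ∈ ww V cf z) (hwa : cm w a = 1 ∨ cm w a = z) : w ∈ jj V cf := by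
  have hz := h.ln.z_mem
  have hz1 := h.ln.z_ne
  have hac := h.ww_le_cf' hy hy1 hz hz1 ha
  have h1 : R.phi a • R.pi w = R.pi w := by
    rw [← sub_eq_zero, R.comm_eq h hac hw]
    change R.pi (cm a w) = 0
    rw [← cm_inv]
    rcases hwa with e | e
    · rw [e, inv_one, R.pi_one h]
    · rw [e, h.ln.inv_eq hz, R.pi_z h]
  obtain ⟨n, hn⟩ := S.exists_of_fx h hy hy1 hyz ha haQ h1
  obtain ⟨v, hv, rfl⟩ := R.pi_surj n
  rw [R.comm_eq h hac hv] at hn
  have h2 : a * v * a⁻¹ * v⁻¹ ∈ jj V cf := h.comm_mem_jj hy hy1 hz hz1 (Ne.symm hyz) ha hv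
  rcases (R.pi_eq h (Fam.jj_le hz hz1 h2) hw).mp hn with e | e
  · rw [← e]; exact h2
  · have e2 : w = z * (a * v * a⁻¹ * v⁻¹) := by rw [e, ← mul_assoc, h.ln.zz, one_mul]
    rw [e2]
    exact mul_mem (h.V_le_jj hz) h2

theorem fx_of_jj {u : G} (hu : u ∈ jj V cf) : R.phi a • R.pi u = R.pi u := by
  have hz := h.ln.z_mem
  have hz1 := h.ln.z_ne
  rw [R.act a (h.ww_le_cf' hy hy1 hz hz1 ha) u (Fam.jj_le hz hz1 hu),
    conj_eq_of_comm (h.comm hy hy1 a ha u (Fam.jj_le hy hy1 hu))]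

theorem mem_jj_of_fx {w : G} (hw : w ∈ ww V cf z) (hwa : R.phi a • R.pi w = R.pi w) : w ∈ jj V cf := by
  have hz := h.ln.z_mem
  have hz1 := h.ln.z_ne
  refine S.mem_jj_of h hy hy1 hyz ha haQ hw ?_
  have h1 : R.pi (a * w * a⁻¹ * w⁻¹) = 0 := by
    rw [← R.comm_eq h (h.ww_le_cf' hy hy1 hz hz1 ha) hw, hwa, sub_self]
  have h2 : a * w * a⁻¹ * w⁻¹ ∈ ww V cf z := (h.comm_mem hy hy1 hz hz1 ha hw).2
  rw [← cm_inv]
  rcases (R.pi_ker _ h2).mp h1 with e | e
  · left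
    change (a * w * a⁻¹ * w⁻¹)⁻¹ = 1
    rw [e, inv_one]
  · right
    change (a * w * a⁻¹ * w⁻¹)⁻¹ = z
    rw [e, h.ln.inv_eq hz]

theorem pi_V {v : G} (hv : v ∈ V) : R.pi v = 0 ∨ R.pi v = R.pi y := by
  rcases h.ln.four h.ln.z_mem hy h.ln.z_ne hy1 (Ne.symm hyz) hv with e | e | e | e <;> rw [e]
  · left; rw [R.pi_one h]
  · left; rw [R.pi_z h]
  · right; rfl
  · right; rw [R.pi_mul z h.z_mem_ww y (h.V_le hy), R.pi_z h, zero_add]

theorem mem_V_of_pi {w : G} (hw : w ∈ ww V cf z) (e : R.pi w = 0 ∨ R.pi w = R.pi y) : w ∈ V := by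
  rcases e with e | e
  · rcases (R.pi_ker w hw).mp e with e | e <;> rw [e]
    · exact one_mem _
    · exact h.ln.z_mem
  · rcases (R.pi_eq h hw (h.V_le hy)).mp e with e | e <;> rw [e]
    · exact hy
    · exact mul_mem h.ln.z_mem hy

/-- (F3) -/
theorem exists_jj : ∃ e ∈ jj V cf, e ∉ V := by
  obtain ⟨m, hm, hm0, hmy⟩ := Abs.exists_ne_ne_of_card (S.card_fx h hy hy1 hyz ha haQ) (u := R.pi y)
  obtain ⟨w, hw, rfl⟩ := R.pi_surj m
  refine ⟨w, S.mem_jj_of_fx h hy hy1 hyz ha haQ hw hm, fun hV => ?_⟩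
  rcases S.pi_V h hy hy1 hyz ha haQ hV with e | e
  · exact hm0 e
  · exact hmy e

/-- (F3) -/
theorem jj_mul {u v : G} (hu : u ∈ jj V cf) (hv : v ∈ jj V cf) (huV : u ∉ V) (hvV : v ∉ V) : u * v ∈ V := by
  have hz := h.ln.z_mem
  have hz1 := h.ln.z_ne
  have two := R.two h
  have huW := Fam.jj_le hz hz1 hu
  have hvW := Fam.jj_le hz hz1 hv
  have hv0 : R.pi y ≠ 0 := R.v0_ne h hy hy1 hyz
  have hu1 : R.pi u ≠ 0 ∧ R.pi u ≠ R.pi y :=
    ⟨fun e => huV (S.mem_V_of_pi h hy hy1 hyz ha haQ huW (Or.inl e)),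
      fun e => huV (S.mem_V_of_pi h hy hy1 hyz ha haQ huW (Or.inr e))⟩
  have hv1 : R.pi v ≠ 0 ∧ R.pi v ≠ R.pi y :=
    ⟨fun e => hvV (S.mem_V_of_pi h hy hy1 hyz ha haQ hvW (Or.inl e)),
      fun e => hvV (S.mem_V_of_pi h hy hy1 hyz ha haQ hvW (Or.inr e))⟩
  refine S.mem_V_of_pi h hy hy1 hyz ha haQ (mul_mem huW hvW) ?_
  rw [R.pi_mul u huW v hvW]
  rcases Abs.mem_four (S.card_fx h hy hy1 hyz ha haQ) two (S.fx_of_jj h hy hy1 hyz ha haQ (h.V_le_jj hy))
    (S.fx_of_jj h hy hy1 hyz ha haQ hu) hv0 hu1.1 (Ne.symm hu1.2)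
    (S.fx_of_jj h hy hy1 hyz ha haQ hv) with e | e | e | e
  · exact absurd e hv1.1
  · exact absurd e hv1.2
  · left; rw [e, two]
  · right
    rw [e, add_comm (R.pi y), ← add_assoc, two, zero_add]

/-- some `w ∈ W_z` with `[w, a] ∉ V` -/
theorem exists_w0 : ∃ w ∈ ww V cf z, cm w a ∉ V := by
  have hz := h.ln.z_mem
  have hz1 := h.ln.z_ne
  have hac := h.ww_le_cf' hy hy1 hz hz1 ha
  obtain ⟨e, he, heV⟩ := S.exists_jj h hy hy1 hyz ha haQ
  obtain ⟨n, hn⟩ := S.exists_of_fx h hy hy1 hyz ha haQ (S.fx_of_jj h hy hy1 hyz ha haQ he)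
  obtain ⟨v, hv, rfl⟩ := R.pi_surj n
  rw [R.comm_eq h hac hv] at hn
  refine ⟨v, hv, fun hV => heV ?_⟩
  rw [← cm_inv, inv_mem_iff] at hV
  have h2 : cm a v ∈ ww V cf z := (h.comm_mem hy hy1 hz hz1 ha hv).2
  rcases (R.pi_eq h h2 (Fam.jj_le hz hz1 he)).mp hn with e1 | e1
  · rw [← e1]; exact hV
  · have e2 : e = z * cm a v := by rw [e1, ← mul_assoc, h.ln.zz, one_mul]
    rw [e2]
    exact mul_mem hz hV

end a

end Shp

end module

end Cfsg.Agent.Omega.NO3S.Fit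

end

section


/-!
# Text #13963 (helper311), section 4: more module facts

* `Fam.ww_le_T'`;
* `Shp.mem_qq_iff` : for `w ∈ W_z`: `w ∈ Q_y ↔ [w, a] ∈ V`;
* `Shp.irr` : `M` is irreducible;
* `Shp.sseven` (S7) : an element of `C_G(V)` which centralises `I` and with `[W_z ∩ Q_y, k] ≤ ⟨y⟩` acts on `M` as
  `1` or `a`;
* `XX`, `OO`, `Shp.lift`, `Shp.gen_XX`, `Shp.ann`.
-/

set_option autoImplicit false
set_option linter.unusedSectionVars false

namespace Cfsg.Agent.Omega.NO3S.Fit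

open Subgroup Cfsg Cfsg.Agent.ZN Cfsg.Agent.MinSimple.Geo Cfsg.Agent.Omega.CaseL
open Cfsg.Agent.Omega.NO3S.Fit.PlaneForm (cm cm_eq_one cm_inv)
open Cfsg.Agent.Omega.NO3S.Fit.Abs (br fx cx)
open Cfsg.Agent.ZN.Block (conj_mem_of_normalizer conj_mem_of_normalizer' le_normalizer_of_forall
  mem_normalizer_of)

universe u

variable {G : Type u} [Group G]

/-- `X_p` -/
def XX (V : Subgroup G) (cf : G → Subgroup G) (p : G) : Subgroup G :=
  closure {x | ∃ c ∈ cf p, ∃ q ∈ V, q ≠ 1 ∧ ∃ g ∈ ww V cf q, x = c * g * c⁻¹}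

/-- `O_p` -/
def OO (V : Subgroup G) (cf : G → Subgroup G) (p : G) : Subgroup G :=
  closure {x | ∃ c ∈ cf p, ∃ q ∈ V, q ≠ 1 ∧ ∃ g ∈ ww V cf q, g ∈ qq V cf p ∧ x = c * g * c⁻¹}

section fam

variable {T V : Subgroup G} {z : G} {cf : G → Subgroup G}

theorem mem_XX {p c q g : G} (hc : c ∈ cf p) (hq : q ∈ V) (hq1 : q ≠ 1) (hg : g ∈ ww V cf q) :
    c * g * c⁻¹ ∈ XX V cf p := subset_closure ⟨c, hc, q, hq, hq1, g, hg, rfl⟩

theorem mem_OO {p c q g : G} (hc : c ∈ cf p) (hq : q ∈ V) (hq1 : q ≠ 1) (hg : g ∈ ww V cf q)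
    (hgQ : g ∈ qq V cf p) : c * g * c⁻¹ ∈ OO V cf p := subset_closure ⟨c, hc, q, hq, hq1, g, hg, hgQ, rfl⟩

theorem mem_XX' {p q g : G} (hq : q ∈ V) (hq1 : q ≠ 1) (hg : g ∈ ww V cf q) : g ∈ XX V cf p := by
  have := mem_XX (V := V) (cf := cf) (one_mem (cf p)) hq hq1 hg
  simpa using this

theorem mem_OO' {p q g : G} (hq : q ∈ V) (hq1 : q ≠ 1) (hg : g ∈ ww V cf q) (hgQ : g ∈ qq V cf p) :
    g ∈ OO V cf p := by
  have := mem_OO (V := V) (cf := cf) (one_mem (cf p)) hq hq1 hg hgQ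
  simpa using this

theorem OO_le_XX (V : Subgroup G) (cf : G → Subgroup G) (p : G) : OO V cf p ≤ XX V cf p := by
  refine closure_le _ |>.mpr ?_
  rintro x ⟨c, hc, q, hq, hq1, g, hg, -, rfl⟩
  exact mem_XX hc hq hq1 hg

namespace Fam

theorem XX_le_cf (h : Fam T V z cf) {p : G} (hp : p ∈ V) (hp1 : p ≠ 1) : XX V cf p ≤ cf p := by
  refine closure_le _ |>.mpr ?_
  rintro x ⟨c, hc, q, hq, hq1, g, hg, rfl⟩
  exact mul_mem (mul_mem hc (h.ww_le_cf' hq hq1 hp hp1 hg)) (inv_mem hc)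

theorem OO_le_qq (h : Fam T V z cf) {p : G} (hp : p ∈ V) (hp1 : p ≠ 1) : OO V cf p ≤ qq V cf p := by
  refine closure_le _ |>.mpr ?_
  rintro x ⟨c, hc, q, hq, hq1, g, hg, hgQ, rfl⟩
  exact conj_mem_of_normalizer (h.cf_norm_qq hp hp1) hc hgQ

theorem cf_norm_XX (_ : Fam T V z cf) {p : G} : cf p ≤ normalizer ((XX V cf p : Subgroup G) : Set G) := by
  refine le_normalizer_of_forall fun c hc x hx => ?_
  induction hx using closure_induction with
  | mem x hx =>
    obtain ⟨c', hc', q, hq, hq1, g, hg, rfl⟩ := hx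
    have e : c * (c' * g * c'⁻¹) * c⁻¹ = (c * c') * g * (c * c')⁻¹ := by group
    rw [e]
    exact mem_XX (mul_mem hc hc') hq hq1 hg
  | one => simp
  | mul a b _ _ ha hb =>
    have e : c * (a * b) * c⁻¹ = (c * a * c⁻¹) * (c * b * c⁻¹) := by group
    rw [e]
    exact mul_mem ha hb
  | inv a _ ha =>
    have e : c * a⁻¹ * c⁻¹ = (c * a * c⁻¹)⁻¹ := by group
    rw [e]
    exact inv_mem ha

theorem cf_norm_OO (_ : Fam T V z cf) {p : G} : cf p ≤ normalizer ((OO V cf p : Subgroup G) : Set G) := by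
  refine le_normalizer_of_forall fun c hc x hx => ?_
  induction hx using closure_induction with
  | mem x hx =>
    obtain ⟨c', hc', q, hq, hq1, g, hg, hgQ, rfl⟩ := hx
    have e : c * (c' * g * c'⁻¹) * c⁻¹ = (c * c') * g * (c * c')⁻¹ := by group
    rw [e]
    exact mem_OO (mul_mem hc hc') hq hq1 hg hgQ
  | one => simp
  | mul a b _ _ ha hb =>
    have e : c * (a * b) * c⁻¹ = (c * a * c⁻¹) * (c * b * c⁻¹) := by group
    rw [e]
    exact mul_mem ha hb
  | inv a _ ha =>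
    have e : c * a⁻¹ * c⁻¹ = (c * a * c⁻¹)⁻¹ := by group
    rw [e]
    exact inv_mem ha

theorem conj_XX (h : Fam T V z cf) {g p x : G} (hg : g ∈ normalizer (V : Set G)) (hp : p ∈ V) (hp1 : p ≠ 1)
    (hx : x ∈ XX V cf p) : g * x * g⁻¹ ∈ XX V cf (g * p * g⁻¹) := by
  induction hx using closure_induction with
  | mem x hx =>
    obtain ⟨c', hc', q, hq, hq1, w, hw, rfl⟩ := hx
    have e : g * (c' * w * c'⁻¹) * g⁻¹ = (g * c' * g⁻¹) * (g * w * g⁻¹) * (g * c' * g⁻¹)⁻¹ := by group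
    rw [e]
    exact mem_XX (h.conj_cf hg hp hp1 hc') (h.conj_pt hg hq) (conj_ne hq1) (h.conj_ww hg hq hq1 hw)
  | one => simp
  | mul a b _ _ ha hb =>
    have e : g * (a * b) * g⁻¹ = (g * a * g⁻¹) * (g * b * g⁻¹) := by group
    rw [e]
    exact mul_mem ha hb
  | inv a _ ha =>
    have e : g * a⁻¹ * g⁻¹ = (g * a * g⁻¹)⁻¹ := by group
    rw [e]
    exact inv_mem ha

theorem conj_OO (h : Fam T V z cf) {g p x : G} (hg : g ∈ normalizer (V : Set G)) (hp : p ∈ V) (hp1 : p ≠ 1)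
    (hx : x ∈ OO V cf p) : g * x * g⁻¹ ∈ OO V cf (g * p * g⁻¹) := by
  induction hx using closure_induction with
  | mem x hx =>
    obtain ⟨c', hc', q, hq, hq1, w, hw, hwQ, rfl⟩ := hx
    have e : g * (c' * w * c'⁻¹) * g⁻¹ = (g * c' * g⁻¹) * (g * w * g⁻¹) * (g * c' * g⁻¹)⁻¹ := by group
    rw [e]
    exact mem_OO (h.conj_cf hg hp hp1 hc') (h.conj_pt hg hq) (conj_ne hq1) (h.conj_ww hg hq hq1 hw)
      (h.conj_qq hg hp hp1 hwQ)
  | one => simp
  | mul a b _ _ ha hb =>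
    have e : g * (a * b) * g⁻¹ = (g * a * g⁻¹) * (g * b * g⁻¹) := by group
    rw [e]
    exact mul_mem ha hb
  | inv a _ ha =>
    have e : g * a⁻¹ * g⁻¹ = (g * a * g⁻¹)⁻¹ := by group
    rw [e]
    exact inv_mem ha

/-- all `W_p` are in `T` -/
theorem ww_le_T' [Finite G] (h : Fam T V z cf) {p : G} (hp : p ∈ V) (hp1 : p ≠ 1) : ww V cf p ≤ T := by
  have hz := h.ln.z_mem
  have hz1 := h.ln.z_ne
  by_cases hpz : p = z
  · rw [hpz]; exact h.ww_le_T
  have hzp : z * p ∈ V := mul_mem hz hp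
  have hzp1 : z * p ≠ 1 := h.mul_ne_one hp (Ne.symm hpz)
  refine le_trans le_sup_left (h.le_T (R := ww V cf p ⊔ ww V cf (z * p)) ?_ ?_)
  · exact (h.two_ww hp hp1).to_sup_of_normal_left' (h.two_ww hzp hzp1)
      ((h.ww_le_cent hzp hzp1).trans (h.cent_norm hp hp1))
  · intro t ht
    have htV := h.ln.T_norm ht
    have htz := h.ln.z_comm (h.ln.T_le ht)
    rw [mem_normalizer_iff_cj]
    have e0 : cj t (ww V cf p ⊔ ww V cf (z * p)) = cj t (ww V cf p) ⊔ cj t (ww V cf (z * p)) := map_sup _ _ _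
    have ez : t * z * t⁻¹ = z := conj_eq_of_comm htz
    have e1 : t * (z * p) * t⁻¹ = z * (t * p * t⁻¹) := by
      calc t * (z * p) * t⁻¹ = (t * z * t⁻¹) * (t * p * t⁻¹) := by group
        _ = z * (t * p * t⁻¹) := by rw [ez]
    rw [e0, h.cj_ww htV hp hp1, h.cj_ww htV hzp hzp1, e1]
    rcases h.ln.conj_cases hz hp hz1 htz htV with e | e
    · rw [e]
    · rw [e]
      have : z * (z * p) = p := by rw [← mul_assoc, h.ln.zz, one_mul]
      rw [this, sup_comm]

/-- `[w, a] ∈ V` if and only if `w ∈ Q_y` -/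
theorem mem_qq_iff (h : Fam T V z cf) (hk : One1 V cf) {y : G} (hy : y ∈ V) (hy1 : y ≠ 1) (hyz : y ≠ z)
    {a w0 : G} (ha : a ∈ ww V cf y) (hw0 : w0 ∈ ww V cf z) (hw0V : cm w0 a ∉ V) {w : G}
    (hw : w ∈ ww V cf z) : w ∈ qq V cf y ↔ cm w a ∈ V := by
  have hz := h.ln.z_mem
  have hz1 := h.ln.z_ne
  have key : ∀ w ∈ qq V cf y, cm w a ∈ V := by
    intro w hwQ
    rcases h.cm_qq' hy hwQ ha with e | e <;> rw [e]
    · exact one_mem _
    · exact hy
  refine ⟨key w, fun hwV => ?_⟩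
  by_contra hwQ
  have hw0Q : w0 ∉ qq V cf y := fun e => hw0V (key w0 e)
  have h1 := hk z hz hz1 y hy hy1 hyz w hw w0 hw0 hwQ hw0Q
  have h2 := key _ h1
  have h3 : cm w0 a ∈ ww V cf z := (h.comm_mem hz hz1 hy hy1 hw0 ha).1
  rw [cm_mul_left, h.ab w hw _ h3, mul_inv_cancel_right] at h2
  apply hw0V
  have := mul_mem h2 (inv_mem hwV)
  rwa [mul_inv_cancel_right] at this

end Fam

end fam

section module

variable {T V : Subgroup G} {z : G} {cf : G → Subgroup G} {M H : Type u} [AddCommGroup M] [Group H]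
  [DistribMulAction H M] {R : MRep V cf z M H} {y : G} {P : Subgroup H} {d : H}

namespace Shp

variable [Finite G] (S : Shp R y P d) (h : Fam T V z cf) (hy : y ∈ V) (hy1 : y ≠ 1) (hyz : y ≠ z)
include S h hy hy1 hyz

/-- `M` is irreducible. -/
theorem irr (N : AddSubgroup M) (hN : ∀ x : H, ∀ n ∈ N, x • n ∈ N) {n0 : M} (hn0 : n0 ∈ N)
    (hn1 : n0 ≠ 0) (m : M) : m ∈ N := by
  have hz := h.ln.z_mem
  have hz1 := h.ln.z_ne
  have hfM := S.finM
  have two := R.two h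
  have hfact : Fact (Nat.Prime 2) := ⟨Nat.prime_two⟩
  obtain ⟨a, ha, haQ⟩ := h.exists_not_qq hy hy1 hz hz1 (Ne.symm hyz)
  let _ : MulAction (R.img T) N :=
    { smul := fun x n => ⟨(x : H) • (n : M), hN x n n.2⟩
      one_smul := fun n => Subtype.ext (one_smul H (n : M))
      mul_smul := fun x y n => Subtype.ext (mul_smul (x : H) (y : H) (n : M)) }
  have hsm : ∀ (x : R.img T) (n : N), ((x • n : N) : M) = (x : H) • (n : M) := fun _ _ => rfl
  have hp := R.img_T_two h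
  have hdvd : 2 ∣ Nat.card N := by
    obtain ⟨k, hk⟩ := Abs.exists_card_two_pow two N
    rw [hk]
    refine dvd_pow_self 2 ?_
    rintro rfl
    rw [pow_zero] at hk
    have : Subsingleton N := (Nat.card_eq_one_iff_unique.mp hk).1
    exact hn1 (congrArg Subtype.val (Subsingleton.elim (⟨n0, hn0⟩ : N) 0))
  have h0 : (0 : N) ∈ MulAction.fixedPoints (R.img T) N := fun x => Subtype.ext (by
    rw [hsm]; exact smul_zero _)
  obtain ⟨b, hb, hb0⟩ := hp.exists_fixed_point_of_prime_dvd_card_of_fixed_point N hdvd h0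
  have hbT : ∀ x ∈ R.img T, x • (b : M) = b := fun x hx => by
    have := congrArg Subtype.val (hb ⟨x, hx⟩)
    rwa [hsm] at this
  have hb1 : (b : M) ≠ 0 := fun e => hb0 (Subtype.ext e.symm)
  obtain ⟨w, hw, hwb⟩ := R.pi_surj (b : M)
  have haT : R.phi a ∈ R.img T := (R.mem_img h.T_le_cf).mpr ⟨a, h.ww_le_T' hy hy1 ha, rfl⟩
  have hwj : w ∈ jj V cf := S.mem_jj_of_fx h hy hy1 hyz ha haQ hw (by rw [hwb]; exact hbT _ haT)
  have hv0 : R.pi y ∈ N := by
    rcases R.fixI h hy hy1 hyz hwj (by rw [hwb]; exact hbT) with e | e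
    · exact absurd (hwb.symm.trans e) hb1
    · rw [← e, hwb]; exact b.2
  have hm : m ∈ AddSubgroup.closure (Set.range fun x : H => x • R.pi y) := by
    rw [R.span h hy hy1 hyz]; trivial
  refine (AddSubgroup.closure_le N).mpr ?_ hm
  rintro _ ⟨x, rfl⟩
  exact hN x _ hv0

/-- every element of `P` has a lift in `X_z` -/
theorem lift {p : H} (hp : p ∈ P) : ∃ t ∈ XX V cf z, R.phi t = p := by
  have hz := h.ln.z_mem
  have hz1 := h.ln.z_ne
  obtain ⟨a, ha, haQ⟩ := h.exists_not_qq hy hy1 hz hz1 (Ne.symm hyz)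
  have hac := h.ww_le_cf' hy hy1 hz hz1 ha
  obtain ⟨k, hk⟩ := S.odd_of hp
  have hq : p ^ (k + 1) ∈ P := pow_mem hp _
  have hqq : p ^ (k + 1) * p ^ (k + 1) = p := by
    rw [← pow_add, show k + 1 + (k + 1) = (2 * k + 1) + 1 by ring, pow_add, ← hk, pow_orderOf_eq_one, one_mul,
      pow_one]
  obtain ⟨c, hc, hcq⟩ := R.phi_surj (p ^ (k + 1))
  have hinv := S.inv a ha haQ _ (inv_mem hq)
  refine ⟨c * a * c⁻¹ * a⁻¹, mul_mem (mem_XX hc hy hy1 ha) (inv_mem (mem_XX' hy hy1 ha)), ?_⟩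
  rw [R.phi_mul _ (mul_mem (mul_mem hc hac) (inv_mem hc)) _ (inv_mem hac),
    R.phi_mul _ (mul_mem hc hac) _ (inv_mem hc), R.phi_mul c hc a hac, R.phi_inv hc, R.phi_inv hac, hcq]
  calc p ^ (k + 1) * R.phi a * (p ^ (k + 1))⁻¹ * (R.phi a)⁻¹ =
        p ^ (k + 1) * (R.phi a * (p ^ (k + 1))⁻¹ * (R.phi a)⁻¹) := by group
    _ = p ^ (k + 1) * p ^ (k + 1) := by rw [hinv, inv_inv]
    _ = p := hqq

/-- `C_z = X_z (N_G(V) ∩ C_G(z))` -/
theorem gen_XX {c : G} (hc : c ∈ cf z) : ∃ x ∈ XX V cf z, ∃ n ∈ normalizer (V : Set G), n * z = z * n ∧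
    c = x * n := by
  have hz := h.ln.z_mem
  have hz1 := h.ln.z_ne
  obtain ⟨p, hp, h0, h1, h2⟩ := S.gen (R.phi c)
  obtain ⟨x, hx, rfl⟩ := S.lift h hy hy1 hyz hp
  obtain ⟨n, hn, rfl⟩ := R.stab h hy hy1 hyz h1
  have hxc := h.XX_le_cf hz hz1 hx
  have hnc := h.cent_le_cf hz hz1 hn
  have h3 : x⁻¹ * c ∈ cf z := mul_mem (inv_mem hxc) hc
  have h4 : x⁻¹ * c * n⁻¹ ∈ qq V cf z := by
    rw [← R.phi_ker _ (mul_mem h3 (inv_mem hnc)), R.phi_mul _ h3 _ (inv_mem hnc), R.phi_inv hnc,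
      R.phi_mul _ (inv_mem hxc) c hc, R.phi_inv hxc, h2]
    group
  refine ⟨x, hx, x⁻¹ * c * n⁻¹ * n, ?_, ?_, by group⟩
  · exact mul_mem (h.qq_le_normalizer hz h4) (centralizer_le_normalizer _ hn)
  · have e : x⁻¹ * c * n⁻¹ * n = x⁻¹ * c := by group
    rw [e]
    exact h.cf_comm hz hz1 h3

/-- `[w, O_z] = 1` only for `w ∈ ⟨z⟩` -/
theorem ann [FaithfulSMul H M] {w : G} (hw : w ∈ ww V cf z) (hwO : ∀ o ∈ OO V cf z, o * w = w * o) :
    w = 1 ∨ w = z := by
  have hz := h.ln.z_mem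
  have hz1 := h.ln.z_ne
  have hk := S.one1 h hy hy1 hyz
  obtain ⟨a, ha, haQ⟩ := h.exists_not_qq hy hy1 hz hz1 (Ne.symm hyz)
  obtain ⟨w0, hw0, hw0V⟩ := S.exists_w0 h hy hy1 hyz ha haQ
  obtain ⟨w1, hw1, hw1y⟩ := h.pl_one hk hy hy1 hyz ha haQ hw0 hw0V
  have hw1Q : w1 ∈ qq V cf y := (h.mem_qq_iff hk hy hy1 hyz ha hw0 hw0V hw1).mpr (by rw [hw1y]; exact hy)
  -- `u ∈ W_y ∩ Q_z`, `b ∈ W_z` with `[u, b] = z`
  obtain ⟨u, hu, huQ, b, hb, hub⟩ : ∃ u ∈ ww V cf y, u ∈ qq V cf z ∧ ∃ b ∈ ww V cf z, u * b ≠ b * u := by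
    obtain ⟨g, hg, e1, e2⟩ := h.trans2 hz hz1 hy hy1 hyz hy hy1 hz hz1 (Ne.symm hyz)
    have h1 := h.conj_ww hg hz hz1 hw1
    have h2 := h.conj_qq hg hy hy1 hw1Q
    have h3 := h.conj_ww hg hy hy1 ha
    rw [e1] at h1
    rw [e2] at h2 h3
    refine ⟨_, h1, h2, _, h3, fun e => hy1 ?_⟩
    have e3 : w1 * a = a * w1 := by
      calc w1 * a = g⁻¹ * ((g * w1 * g⁻¹) * (g * a * g⁻¹)) * g := by group
        _ = g⁻¹ * ((g * a * g⁻¹) * (g * w1 * g⁻¹)) * g := by rw [e]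
        _ = a * w1 := by group
    rw [← hw1y]
    exact cm_eq_one.mpr e3
  by_contra hcon
  have hpw : R.pi w ≠ 0 := fun e => hcon ((R.pi_ker w hw).mp e)
  let N : AddSubgroup M :=
    { carrier := {m | ∃ v ∈ ww V cf z, (∀ o ∈ OO V cf z, o * v = v * o) ∧ R.pi v = m}
      zero_mem' := ⟨1, one_mem _, fun o _ => by rw [mul_one, one_mul], R.pi_one h⟩
      add_mem' := by
        rintro _ _ ⟨v, hv, hvO, rfl⟩ ⟨v', hv', hvO', rfl⟩
        refine ⟨v * v', mul_mem hv hv', fun o ho => ?_, R.pi_mul v hv v' hv'⟩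
        rw [← mul_assoc, hvO o ho, mul_assoc, hvO' o ho, mul_assoc]
      neg_mem' := by
        rintro _ ⟨v, hv, hvO, rfl⟩
        refine ⟨v⁻¹, inv_mem hv, fun o ho => ?_, R.pi_inv h hv⟩
        exact (show Commute o v from hvO o ho).inv_right }
  have hN : ∀ x : H, ∀ n ∈ N, x • n ∈ N := by
    rintro x _ ⟨v, hv, hvO, rfl⟩
    obtain ⟨c, hc, rfl⟩ := R.phi_surj x
    refine ⟨c * v * c⁻¹, conj_mem_wf hc hv, fun o ho => ?_, (R.act c hc v hv).symm⟩
    have h1 : c⁻¹ * o * c ∈ OO V cf z := conj_mem_of_normalizer' h.cf_norm_OO hc ho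
    have h2 := hvO _ h1
    calc o * (c * v * c⁻¹) = c * ((c⁻¹ * o * c) * v) * c⁻¹ := by group
      _ = c * (v * (c⁻¹ * o * c)) * c⁻¹ := by rw [h2]
      _ = c * v * c⁻¹ * o := by group
  obtain ⟨v, hv, hvO, hvb⟩ := S.irr h hy hy1 hyz N hN (n0 := R.pi w) ⟨w, hw, hwO, rfl⟩ hpw (R.pi b)
  have huO := mem_OO' (p := z) hy hy1 hu huQ
  have h1 := hvO u huO
  rcases (R.pi_eq h hv hb).mp hvb with e | e
  · rw [e] at h1
    exact hub h1
  · apply hub
    have huz := h.cf_comm hz hz1 huQ.1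
    have e1 : b = z * v := by rw [e, ← mul_assoc, h.ln.zz, one_mul]
    rw [e1, ← mul_assoc, huz, mul_assoc, h1, mul_assoc]

end Shp

end module

end Cfsg.Agent.Omega.NO3S.Fit

end

section


/-!
# Text #13963 (helper311), section 4: (S7)

`Shp.sseven` : an element `k` of `C_G(V)` which centralises `I` and with `[W_z ∩ Q_y, k] ≤ ⟨y⟩` acts on `M` as `1` or
as `a`.
-/

set_option autoImplicit false
set_option linter.unusedSectionVars false

namespace Cfsg.Agent.Omega.NO3S.Fit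

open Subgroup Cfsg Cfsg.Agent.ZN Cfsg.Agent.MinSimple.Geo Cfsg.Agent.Omega.CaseL
open Cfsg.Agent.Omega.NO3S.Fit.PlaneForm (cm cm_eq_one cm_inv)
open Cfsg.Agent.Omega.NO3S.Fit.Abs (br fx cx)
open Cfsg.Agent.ZN.Block (conj_mem_of_normalizer conj_mem_of_normalizer' le_normalizer_of_forall
  mem_normalizer_of)

universe u

variable {G : Type u} [Group G]

section module

variable {T V : Subgroup G} {z : G} {cf : G → Subgroup G} {M H : Type u} [AddCommGroup M] [Group H]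
  [DistribMulAction H M] {R : MRep V cf z M H} {y : G} {P : Subgroup H} {d : H}

namespace Shp

variable [Finite G] (S : Shp R y P d) (h : Fam T V z cf) (hy : y ∈ V) (hy1 : y ≠ 1) (hyz : y ≠ z)
include S h hy hy1 hyz

/-- (S7), module form: `κ` fixes `C_M(α)`, `κ m - m ∈ {0, v0}` whenever `α m - m ∈ {0, v0}`. -/
theorem seven_aux [FaithfulSMul H M] {a : G} (ha : a ∈ ww V cf y) (haQ : a ∉ qq V cf z) {κ : H}
    (h1 : ∀ m : M, R.phi a • m = m → κ • m = m)
    (h2 : ∀ m : M, (R.phi a • m - m = 0 ∨ R.phi a • m - m = R.pi y) → κ • m = m)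
    (h3 : ∀ m m' : M, ¬ (R.phi a • m - m = 0 ∨ R.phi a • m - m = R.pi y) →
      ¬ (R.phi a • m' - m' = 0 ∨ R.phi a • m' - m' = R.pi y) →
      (R.phi a • (m + m') - (m + m') = 0 ∨ R.phi a • (m + m') - (m + m') = R.pi y)) : κ = 1 := by
  have hz := h.ln.z_mem
  have hz1 := h.ln.z_ne
  have hfM := S.finM
  have two := R.two h
  have hk := S.one1 h hy hy1 hyz
  have haa := S.aa h hy hy1 hyz ha haQ
  have hαv : R.phi a • R.pi y = R.pi y := S.fx_of_jj h hy hy1 hyz ha haQ (h.V_le_jj hy)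
  set α := R.phi a with hα
  have sub_eq : ∀ m n : M, m - n = m + n := Abs.sub_eq two
  have hκv : κ • R.pi y = R.pi y := h1 _ hαv
  have hκα : κ * α = α * κ := R.cen_A h hk hy hy1 hyz ha hκv
  by_contra hκ
  obtain ⟨m2, hm2⟩ : ∃ m : M, κ • m ≠ m := by
    by_contra hcon
    push Not at hcon
    exact hκ (FaithfulSMul.eq_of_smul_eq_smul (α := M) fun m => by rw [hcon m, one_smul])
  have hm2P : ¬ (α • m2 - m2 = 0 ∨ α • m2 - m2 = R.pi y) := fun e => hm2 (h2 m2 e)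
  set n := κ • m2 - m2 with hn
  have hn0 : n ≠ 0 := fun e => hm2 (sub_eq_zero.mp e)
  -- (v)
  have h5 : ∀ m : M, ¬ (α • m - m = 0 ∨ α • m - m = R.pi y) → κ • m = m + n := by
    intro m hm
    have e := h2 _ (h3 m m2 hm hm2P)
    rw [smul_add] at e
    have e1 : κ • m2 = m2 + n := by rw [hn]; abel
    rw [e1] at e
    have e2 : κ • m + n = m := by
      have : κ • m + (m2 + n) = (κ • m + n) + m2 := by abel
      rw [this] at e
      exact add_right_cancel e
    calc κ • m = κ • m + n + n := by rw [add_assoc, two, add_zero]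
      _ = m + n := by rw [e2]
  have h5' : ∀ m : M, κ • m = m ∨ κ • m = m + n := by
    intro m
    by_cases hm : α • m - m = 0 ∨ α • m - m = R.pi y
    · exact Or.inl (h2 m hm)
    · exact Or.inr (h5 m hm)
  have hκn : κ • n = n := by
    refine h2 n ?_
    have e : n = m2 + κ • m2 := by rw [hn, sub_eq, add_comm]
    rw [e]
    refine h3 _ _ hm2P fun e' => hm2P ?_
    have e2 : α • κ • m2 - κ • m2 = κ • (α • m2 - m2) := by
      rw [smul_sub, ← mul_smul, ← hκα, mul_smul]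
    rw [e2] at e'
    rcases e' with e' | e'
    · left
      have := congrArg (κ⁻¹ • ·) e'
      simpa using this
    · right
      have := congrArg (κ⁻¹ • ·) e'
      simp only [inv_smul_smul] at this
      rw [this]
      exact inv_smul_eq_iff.mpr hκv.symm
  have hκκ : κ * κ = 1 := by
    refine FaithfulSMul.eq_of_smul_eq_smul (α := M) fun m => ?_
    rw [one_smul, mul_smul]
    rcases h5' m with e | e
    · rw [e, e]
    · rw [e, smul_add, e, hκn, add_assoc, two, add_zero]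
  have hκi : κ⁻¹ = κ := inv_eq_of_mul_eq_one_left hκκ
  have hκd : d * κ ≠ κ * d := by
    intro e
    have e1 : d • n = κ • (d • m2) - d • m2 := by
      rw [hn, smul_sub, ← mul_smul, e, mul_smul]
    rcases h5' (d • m2) with e2 | e2
    · rw [e2, sub_self] at e1
      apply hn0
      have := congrArg (d⁻¹ • ·) e1
      simpa using this
    · rw [e2, add_sub_cancel_left] at e1
      exact hn0 (S.fd n e1)
  set p := d * κ * d⁻¹ * κ⁻¹ with hp
  have hpP : p ∈ P := by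
    have e : p = d * (κ * d⁻¹ * κ⁻¹) := by rw [hp]; group
    rw [e]
    exact mul_mem S.dP (S.nor κ _ (inv_mem S.dP))
  have hp1 : p ≠ 1 := by
    intro e
    apply hκd
    have e1 : d * κ = p * (κ * d) := by rw [hp]; group
    rw [e1, e, one_mul]
  have hpo := S.odd_of hpP
  have hpi : κ * p * κ⁻¹ = p⁻¹ := by
    have e1 : κ * p * κ⁻¹ = κ * d * κ * d⁻¹ * (κ * κ)⁻¹ := by rw [hp]; group
    have e2 : p⁻¹ = κ * d * κ⁻¹ * d⁻¹ := by rw [hp]; group
    rw [e1, e2, hκκ, hκi]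
    group
  -- (ix)
  have h9 : ∀ m : M, p • m - m = 0 ∨ p • m - m = n ∨ p • m - m = d • n ∨ p • m - m = n + d • n := by
    intro m
    have e1 : ∀ m' : M, d • κ • d⁻¹ • m' = m' ∨ d • κ • d⁻¹ • m' = m' + d • n := by
      intro m'
      rcases h5' (d⁻¹ • m') with e | e
      · left; rw [e, smul_inv_smul]
      · right; rw [e, smul_add, smul_inv_smul]
    have e2 : p • m = d • κ • d⁻¹ • κ • m := by
      rw [hp, hκi]
      simp only [mul_smul]
    rcases h5' m with e | e <;> rcases e1 (κ • m) with e3 | e3 <;> rw [e2, e3, e]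
    · left; abel
    · right; right; left; abel
    · right; left; abel
    · right; right; right; abel
  have hbr : ∀ m ∈ br M p, m = 0 ∨ m = n ∨ m = d • n ∨ m = n + d • n := by
    rintro _ ⟨m, rfl⟩
    exact h9 m
  -- (x)
  have hnbr : n ∈ br M p := by
    obtain ⟨u, hu, hu0⟩ : ∃ u ∈ br M p, u ≠ 0 := by
      by_contra hcon
      push Not at hcon
      refine Abs.ne_zero_of_br (M := M) hp1 ?_
      rw [eq_bot_iff]
      intro m hm
      rw [AddSubgroup.mem_bot]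
      exact hcon m hm
    have hpu : p • u ∈ br M p := Abs.smul_mem_br_self hu
    have hpu1 : p • u ≠ u := fun e => hu0 (Abs.br_inf_fx two hpo hu e)
    have hpu0 : p • u ≠ 0 := fun e => hu0 (by
      have := congrArg (p⁻¹ • ·) e
      simpa using this)
    have hs : u + p • u ∈ br M p := add_mem hu hpu
    rcases hbr u hu with e | e | e | e
    · exact absurd e hu0
    · rw [← e]; exact hu
    · rcases hbr _ hpu with e' | e' | e' | e'
      · exact absurd e' hpu0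
      · rw [← e']; exact hpu
      · exact absurd (e'.trans e.symm) hpu1
      · have : u + p • u = n := by
          rw [e', e]
          calc d • n + (n + d • n) = n + (d • n + d • n) := by abel
            _ = n := by rw [two, add_zero]
        rw [← this]; exact hs
    · rcases hbr _ hpu with e' | e' | e' | e'
      · exact absurd e' hpu0
      · rw [← e']; exact hpu
      · have : u + p • u = n := by
          rw [e', e]
          calc n + d • n + d • n = n + (d • n + d • n) := by abel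
            _ = n := by rw [two, add_zero]
        rw [← this]; exact hs
      · exact absurd (e'.trans e.symm) hpu1
  have hnfx : p • n ≠ n := fun e => hn0 (Abs.br_inf_fx two hpo hnbr e)
  -- (xii)
  have h12 : ∀ m : M, p • m = m → (α • m - m = 0 ∨ α • m - m = R.pi y) := by
    intro m hm
    by_contra hcon
    have e1 := h5 m hcon
    have e2 : p • κ • m = κ • m := Abs.smul_mem_fx_of_inv hpi hm
    rw [e1, smul_add, hm] at e2
    exact hnfx (add_left_cancel e2)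
  have hpv : p • R.pi y ≠ R.pi y := by
    intro e
    have e1 := R.cen_A h hk hy hy1 hyz ha e
    have e2 := S.inv a ha haQ p hpP
    rw [← hα, mul_assoc] at e2
    have e3 : α * (p * α⁻¹) = p := by
      have : p * α⁻¹ = α⁻¹ * p := by
        rw [mul_inv_eq_iff_eq_mul, mul_assoc, e1, inv_mul_cancel_left]
      rw [this, mul_inv_cancel_left]
    rw [e3] at e2
    have e4 : p * p = 1 := by
      nth_rewrite 1 [e2]
      exact inv_mul_cancel p
    apply hp1
    refine Abs.eq_one_of_fix (M := M) two hpo fun m hm => ?_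
    exact Abs.fix_of_sq hpo (by rw [← mul_smul, e4, one_smul])
  have h14 : fx M p ≤ fx M α := by
    intro m hm
    have e1 : p • α • m = α • m := Abs.smul_mem_fx_of_inv (S.inv a ha haQ p hpP) hm
    have e2 : p • (α • m - m) = α • m - m := by rw [smul_sub, e1, show p • m = m from hm]
    rcases h12 m hm with e | e
    · exact sub_eq_zero.mp e
    · rw [e] at e2
      exact absurd e2 hpv
  have hcard : 4 ≤ Nat.card (fx M p) := by
    have h16 : Nat.card M ≤ Nat.card (br M p) * Nat.card (fx M p) := by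
      rw [← Nat.card_prod]
      refine Nat.card_le_card_of_surjective (fun q : br M p × fx M p => (q.1 : M) + q.2) ?_
      intro m
      obtain ⟨u, hu, v, hv, e⟩ := Abs.exists_decomp two hpo m
      exact ⟨(⟨u, hu⟩, ⟨v, hv⟩), e⟩
    have h17 : Nat.card (br M p) ≤ 4 := by
      classical
      have hsub : ((br M p : AddSubgroup M) : Set M) ⊆ (({0, n, d • n, n + d • n} : Finset M) : Set M) := by
        intro m hm
        have := hbr m hm
        simpa using this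
      have h18 := Set.ncard_le_ncard hsub (Finset.finite_toSet _)
      rw [Set.ncard_coe_finset] at h18
      have h19 : Set.ncard ((br M p : AddSubgroup M) : Set M) = Nat.card (br M p) := (Nat.card_coe_set_eq _).symm
      rw [h19] at h18
      exact h18.trans Finset.card_le_four
    rw [S.card] at h16
    have h20 : Nat.card (br M p) * Nat.card (fx M p) ≤ 4 * Nat.card (fx M p) := Nat.mul_le_mul_right _ h17
    omega
  have heq : fx M p = fx M α := by
    refine AddSubgroup.eq_of_le_of_card_ge h14 ?_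
    rw [S.card_fx h hy hy1 hyz ha haQ]
    exact hcard
  have : R.pi y ∈ fx M p := by rw [heq]; exact hαv
  exact hpv this

/-- **(S7)** -/
theorem sseven [FaithfulSMul H M] {a : G} (ha : a ∈ ww V cf y) (haQ : a ∉ qq V cf z) {k : G}
    (hkV : k ∈ centralizer (V : Set G)) (hkj : ∀ e ∈ jj V cf, k * e = e * k)
    (hk1 : ∀ w ∈ ww V cf z, w ∈ qq V cf y → cm k w = 1 ∨ cm k w = y) :
    k ∈ qq V cf z ∨ k * a ∈ qq V cf z := by
  have hz := h.ln.z_mem
  have hz1 := h.ln.z_ne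
  have two := R.two h
  have hk := S.one1 h hy hy1 hyz
  have hac := h.ww_le_cf' hy hy1 hz hz1 ha
  have hkc := h.cent_le_cf hz hz1 hkV
  obtain ⟨w0, hw0, hw0V⟩ := S.exists_w0 h hy hy1 hyz ha haQ
  obtain ⟨w1, hw1, hw1y⟩ := h.pl_one hk hy hy1 hyz ha haQ hw0 hw0V
  have hαv : R.phi a • R.pi y = R.pi y := S.fx_of_jj h hy hy1 hyz ha haQ (h.V_le_jj hy)
  have haa := S.aa h hy hy1 hyz ha haQ
  -- membership in `M¹`
  have hM1 : ∀ w ∈ ww V cf z, (R.phi a • R.pi w - R.pi w = 0 ∨ R.phi a • R.pi w - R.pi w = R.pi y) ↔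
      w ∈ qq V cf y := by
    intro w hw
    rw [h.mem_qq_iff hk hy hy1 hyz ha hw0 hw0V hw, R.comm_eq h hac hw]
    have h1 : cm a w ∈ ww V cf z := (h.comm_mem hy hy1 hz hz1 ha hw).2
    rw [← cm_inv, inv_mem_iff]
    exact ⟨fun e => S.mem_V_of_pi h hy hy1 hyz ha haQ h1 e, fun e => S.pi_V h hy hy1 hyz ha haQ e⟩
  have hκ1 : ∀ m : M, R.phi a • m = m → R.phi k • m = m := by
    intro m hm
    obtain ⟨w, hw, rfl⟩ := R.pi_surj m
    have hwj := S.mem_jj_of_fx h hy hy1 hyz ha haQ hw hm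
    rw [R.act k hkc w hw, conj_eq_of_comm (hkj w hwj)]
  have hκ2 : ∀ m : M, (R.phi a • m - m = 0 ∨ R.phi a • m - m = R.pi y) →
      R.phi k • m = m ∨ R.phi k • m = m + R.pi y := by
    intro m hm
    obtain ⟨w, hw, rfl⟩ := R.pi_surj m
    have hwQ := (hM1 w hw).mp hm
    have e : R.phi k • R.pi w = R.pi (cm k w) + R.pi w := by
      have := R.comm_eq h hkc hw
      change R.phi k • R.pi w - R.pi w = R.pi (cm k w) at this
      rw [← this]; abel
    rcases hk1 w hw hwQ with e1 | e1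
    · left; rw [e, e1, R.pi_one h, zero_add]
    · right; rw [e, e1, add_comm]
  have h3 : ∀ m m' : M, ¬ (R.phi a • m - m = 0 ∨ R.phi a • m - m = R.pi y) →
      ¬ (R.phi a • m' - m' = 0 ∨ R.phi a • m' - m' = R.pi y) →
      (R.phi a • (m + m') - (m + m') = 0 ∨ R.phi a • (m + m') - (m + m') = R.pi y) := by
    intro m m' hm hm'
    obtain ⟨w, hw, rfl⟩ := R.pi_surj m
    obtain ⟨w', hw', rfl⟩ := R.pi_surj m'
    rw [hM1 w hw] at hm
    rw [hM1 w' hw'] at hm'
    rw [← R.pi_mul w hw w' hw', hM1 _ (mul_mem hw hw')]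
    exact hk z hz hz1 y hy hy1 hyz w hw w' hw' hm hm'
  -- `m1 ∈ M¹` with `α m1 = m1 + v0`
  have hm1 : R.phi a • R.pi w1 = R.pi w1 + R.pi y := by
    have e1 : R.phi a • R.pi w1 - R.pi w1 = R.pi (cm a w1) := R.comm_eq h hac hw1
    rw [← cm_inv, hw1y, h.ln.inv_eq hy] at e1
    rw [← e1]; abel
  have hm1P : R.phi a • R.pi w1 - R.pi w1 = 0 ∨ R.phi a • R.pi w1 - R.pi w1 = R.pi y := by
    right; rw [hm1, add_sub_cancel_left]
  -- the element `κ'`
  have fin : ∀ κ : H, (∀ m : M, R.phi a • m = m → κ • m = m) → κ • R.pi w1 = R.pi w1 → κ = 1 := by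
    intro κ hκ hκw
    refine S.seven_aux h hy hy1 hyz ha haQ hκ (fun m hm => ?_) h3
    rcases hm with e | e
    · exact hκ m (sub_eq_zero.mp e)
    · have e1 : R.phi a • (m - R.pi w1) = m - R.pi w1 := by
        have : R.phi a • m = m + R.pi y := by rw [← e]; abel
        rw [smul_sub, this, hm1]; abel
      have e2 := hκ _ e1
      rw [smul_sub, hκw] at e2
      exact sub_left_injective e2
  rcases hκ2 _ hm1P with e | e
  · left
    rw [← R.phi_ker k hkc]
    exact fin _ hκ1 e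
  · right
    rw [← R.phi_ker _ (mul_mem hkc hac), R.phi_mul k hkc a hac]
    refine fin _ (fun m hm => by rw [mul_smul, hm, hκ1 m hm]) ?_
    rw [mul_smul, hm1, smul_add, e, hκ1 _ hαv, add_assoc, two, add_zero]

end Shp

end module

end Cfsg.Agent.Omega.NO3S.Fit

end

section


/-!
# Text #13963 (helper311), section 4: the facts of the module in the language of the group

For `D : Dat T V z cf y`.
-/

set_option autoImplicit false
set_option linter.unusedSectionVars false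

namespace Cfsg.Agent.Omega.NO3S.Fit

open Subgroup Cfsg Cfsg.Agent.ZN Cfsg.Agent.MinSimple.Geo Cfsg.Agent.Omega.CaseL
open Cfsg.Agent.Omega.NO3S.Fit.PlaneForm (cm cm_eq_one cm_inv)
open Cfsg.Agent.Omega.NO3S.Fit.Abs (br fx cx)
open Cfsg.Agent.ZN.Block (conj_mem_of_normalizer conj_mem_of_normalizer' le_normalizer_of_forall
  mem_normalizer_of)

universe u

/-! ### Duality -/

/-- A set of functionals without common zeros, closed under addition, is everything. -/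
theorem dual_full {M : Type*} [AddCommGroup M] [Finite M] (two : ∀ m : M, m + m = 0)
    (Φ : AddSubgroup (M →+ ZMod 2)) (hΦ : ∀ m : M, (∀ f ∈ Φ, f m = 0) → m = 0) (g : M →+ ZMod 2) : g ∈ Φ := by
  let _ : Module (ZMod 2) M := AddCommGroup.zmodModule (n := 2) fun x => by
    rw [two_nsmul]; exact two x
  have hfin : Module.Finite (ZMod 2) M := Module.Finite.of_finite
  let W : Submodule (ZMod 2) (Module.Dual (ZMod 2) M) :=
    { carrier := {f | (f : M →+ ZMod 2) ∈ Φ}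
      add_mem' := fun {a b} ha hb => by
        have ha' : (a : M →+ ZMod 2) ∈ Φ := ha
        have hb' : (b : M →+ ZMod 2) ∈ Φ := hb
        have := add_mem ha' hb'
        exact this
      zero_mem' := by
        have : (0 : M →+ ZMod 2) ∈ Φ := zero_mem Φ
        exact this
      smul_mem' := by
        intro c f hf
        have hc : c = 0 ∨ c = 1 := by
          revert c; decide
        rcases hc with rfl | rfl
        · rw [zero_smul]
          exact zero_mem Φ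
        · rw [one_smul]
          exact hf }
  have h1 : W.dualCoannihilator = ⊥ := by
    rw [eq_bot_iff]
    intro m hm
    rw [Submodule.mem_dualCoannihilator] at hm
    rw [Submodule.mem_bot]
    refine hΦ m fun f hf => ?_
    exact hm (f.toZModLinearMap 2) hf
  have h2 : W = ⊤ := by
    rw [← Subspace.dualCoannihilator_dualAnnihilator_eq (W := W), h1, Submodule.dualAnnihilator_bot]
  have h3 : g.toZModLinearMap 2 ∈ W := by rw [h2]; trivial
  exact h3

variable {G : Type u} [Group G]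

section fam

variable {T V : Subgroup G} {z : G} {cf : G → Subgroup G}

/-- `[q, w] ∈ {1, p}` for `q ∈ Q_p`, `w ∈ W_p` -/
theorem Fam.cm_qw (h : Fam T V z cf) {p w k : G} (hp : p ∈ V) (hw : w ∈ ww V cf p)
    (hk : k ∈ qq V cf p) : cm k w = 1 ∨ cm k w = p := by
  rcases h.qq_cases hp hk hw with e1 | e1
  · exact Or.inl (cm_eq_one.mpr (comm_of_conj_eq e1))
  · right
    unfold cm
    rw [e1, mul_assoc, mul_inv_cancel, mul_one]

/-- `Q_p / K_p` is abelian. -/
theorem Fam.cm_qq_kk (h : Fam T V z cf) {p q q' : G} (hp : p ∈ V) (hp1 : p ≠ 1) (hq : q ∈ qq V cf p)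
    (hq' : q' ∈ qq V cf p) : cm q q' ∈ kk V cf p := by
  rw [mem_centralizer_iff]
  intro w hw
  have hpq := h.qq_p hq
  have hpq' := h.qq_p hq'
  have hpi : p * p = 1 := h.ln.sq p hp
  have key : ∀ k ∈ qq V cf p, ∀ v ∈ ww V cf p, k * v * k⁻¹ = v ∨ k * v * k⁻¹ = p * v :=
    fun k hk v hv => h.qq_cases hp hk hv
  have hconj : ∀ k : G, k * p = p * k → ∀ v, k * (p * v) * k⁻¹ = p * (k * v * k⁻¹) := by
    intro k hk v
    rw [← mul_assoc, hk]; group
  have h3 : ∀ v ∈ ww V cf p, q * q' * v * (q * q')⁻¹ = q' * q * v * (q' * q)⁻¹ := by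
    intro w hw
    have h1 : q * (q' * w * q'⁻¹) * q⁻¹ = q' * (q * w * q⁻¹) * q'⁻¹ := by
      rcases key q hq w hw with e | e <;> rcases key q' hq' w hw with e' | e'
      · rw [e, e', e]
      · rw [e, e', hconj q hpq, e]
      · rw [e, hconj q' hpq', e', e]
      · rw [e, e', hconj q hpq, e, hconj q' hpq', e']
    have e1 : q * q' * w * (q * q')⁻¹ = q * (q' * w * q'⁻¹) * q⁻¹ := by group
    have e2 : q' * q * w * (q' * q)⁻¹ = q' * (q * w * q⁻¹) * q'⁻¹ := by group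
    rw [e1, e2, h1]
  have e3 : cm q q' = q * q' * (q' * q)⁻¹ := by unfold cm; group
  rw [e3]
  have hw' : (q' * q)⁻¹ * w * (q' * q) ∈ ww V cf p :=
    conj_mem_of_normalizer' h.cf_norm (mul_mem hq'.1 hq.1) hw
  have h4 := h3 _ hw'
  set v := (q' * q)⁻¹ * w * (q' * q) with hv
  have h5 : q' * q * v * (q' * q)⁻¹ = w := by rw [hv]; group
  rw [h5] at h4
  calc w * (q * q' * (q' * q)⁻¹) = (q * q' * v * (q * q')⁻¹) * (q * q' * (q' * q)⁻¹) := by rw [h4]
    _ = q * q' * v * (q' * q)⁻¹ := by group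
    _ = q * q' * (q' * q)⁻¹ * (q' * q * v * (q' * q)⁻¹) := by group
    _ = q * q' * (q' * q)⁻¹ * w := by rw [h5]

end fam

section module

variable {T V : Subgroup G} {z : G} {cf : G → Subgroup G} {M H : Type u} [AddCommGroup M] [Group H]
  [DistribMulAction H M] {R : MRep V cf z M H} {y : G} {P : Subgroup H} {d : H}

open Classical in
/-- the functional of `q ∈ Q_z` -/
noncomputable def MRep.fn (R : MRep V cf z M H) (h : Fam T V z cf) {q : G} (hq : q ∈ qq V cf z) : M →+ ZMod 2 where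
  toFun m := if ∃ w ∈ ww V cf z, R.pi w = m ∧ cm q w = z then 1 else 0
  map_zero' := by
    rw [if_neg]
    rintro ⟨w, hw, hw0, hwz⟩
    rcases (R.pi_ker w hw).mp hw0 with e | e
    · rw [e] at hwz
      apply h.ln.z_ne
      rw [← hwz]; unfold cm; group
    · rw [e, cm_eq_one.mpr (h.qq_p hq)] at hwz
      exact h.ln.z_ne hwz.symm
  map_add' := by
    have key : ∀ w ∈ ww V cf z, (∃ w' ∈ ww V cf z, R.pi w' = R.pi w ∧ cm q w' = z) ↔ cm q w = z := by
      intro w hw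
      refine ⟨?_, fun e => ⟨w, hw, rfl, e⟩⟩
      rintro ⟨w', hw', e1, e2⟩
      rcases (R.pi_eq h hw' hw).mp e1 with e | e
      · rwa [e] at e2
      · rw [e, cm_mul_right, cm_eq_one.mpr (h.qq_p hq), one_mul] at e2
        have h1 : z * cm q w = cm q w * z := by
          rcases h.cm_qw h.ln.z_mem hw hq with e3 | e3 <;> rw [e3]
          rw [mul_one, one_mul]
        rwa [h1, mul_inv_cancel_right] at e2
    intro m m'
    obtain ⟨w, hw, rfl⟩ := R.pi_surj m
    obtain ⟨w', hw', rfl⟩ := R.pi_surj m'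
    rw [← R.pi_mul w hw w' hw']
    simp only [key w hw, key w' hw', key _ (mul_mem hw hw')]
    have e0 : cm q (w * w') = cm q w * cm q w' := by
      rw [cm_mul_right]
      congr 1
      rcases h.cm_qw h.ln.z_mem hw' hq with e3 | e3
      · rw [e3]; group
      · rw [e3, h.ab w hw z h.z_mem_ww, mul_inv_cancel_right]
    rw [e0]
    have hz1 : (1 : G) ≠ z := Ne.symm h.ln.z_ne
    rcases h.cm_qw h.ln.z_mem hw hq with e1 | e1 <;> rcases h.cm_qw h.ln.z_mem hw' hq with e2 | e2 <;>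
      rw [e1, e2]
    · simp [hz1]
    · simp [hz1]
    · simp [hz1]
    · have hzz : z * z ≠ z := by rw [h.ln.zz]; exact hz1
      simp only [hzz, if_true, if_false]
      decide

theorem MRep.fn_pi (R : MRep V cf z M H) (h : Fam T V z cf) {q : G} (hq : q ∈ qq V cf z) {w : G}
    (hw : w ∈ ww V cf z) : R.fn h hq (R.pi w) = 0 ↔ cm q w = 1 := by
  classical
  have key : (∃ w' ∈ ww V cf z, R.pi w' = R.pi w ∧ cm q w' = z) ↔ cm q w = z := by
    refine ⟨?_, fun e => ⟨w, hw, rfl, e⟩⟩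
    rintro ⟨w', hw', e1, e2⟩
    rcases (R.pi_eq h hw' hw).mp e1 with e | e
    · rwa [e] at e2
    · rw [e, cm_mul_right, cm_eq_one.mpr (h.qq_p hq), one_mul] at e2
      have h1 : z * cm q w = cm q w * z := by
        rcases h.cm_qw h.ln.z_mem hw hq with e3 | e3 <;> rw [e3]
        rw [mul_one, one_mul]
      rwa [h1, mul_inv_cancel_right] at e2
  have e0 : R.fn h hq (R.pi w) = if cm q w = z then 1 else 0 := by
    change (if ∃ w' ∈ ww V cf z, R.pi w' = R.pi w ∧ cm q w' = z then (1 : ZMod 2) else 0) = _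
    simp only [key]
  rw [e0]
  rcases h.cm_qw h.ln.z_mem hw hq with e | e
  · have hz1 : (1 : G) ≠ z := Ne.symm h.ln.z_ne
    simp [e, hz1]
  · simp [e, h.ln.z_ne]

theorem zmod2_cases (x y : ZMod 2) (h : x = 0 ↔ y = 0) : x = y := by
  revert x y; decide

theorem MRep.fn_mul (R : MRep V cf z M H) (h : Fam T V z cf) {q q' : G} (hq : q ∈ qq V cf z)
    (hq' : q' ∈ qq V cf z) : R.fn h (mul_mem hq hq') = R.fn h hq + R.fn h hq' := by
  ext m
  obtain ⟨w, hw, rfl⟩ := R.pi_surj m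
  apply zmod2_cases
  rw [R.fn_pi h _ hw]
  have e0 : cm (q * q') w = cm q' w * cm q w := by
    rw [cm_mul_left]
    congr 1
    rcases h.cm_qw h.ln.z_mem hw hq' with e3 | e3
    · rw [e3]; group
    · rw [e3, h.qq_p hq, mul_inv_cancel_right]
  have a1 := R.fn_pi h hq hw
  have a2 := R.fn_pi h hq' hw
  rw [AddMonoidHom.add_apply, e0]
  have hz1 : (1 : G) ≠ z := Ne.symm h.ln.z_ne
  rcases h.cm_qw h.ln.z_mem hw hq with e1 | e1 <;> rcases h.cm_qw h.ln.z_mem hw hq' with e2 | e2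
  · rw [a1.mpr e1, a2.mpr e2, e1, e2]; simp
  · have b2 : R.fn h hq' (R.pi w) ≠ 0 := fun e => h.ln.z_ne (e2.symm.trans (a2.mp e))
    rw [a1.mpr e1, e1, e2, zero_add, mul_one]
    exact ⟨fun e => absurd e h.ln.z_ne, fun e => absurd e b2⟩
  · have b1 : R.fn h hq (R.pi w) ≠ 0 := fun e => h.ln.z_ne (e1.symm.trans (a1.mp e))
    rw [a2.mpr e2, e1, e2, add_zero, one_mul]
    exact ⟨fun e => absurd e h.ln.z_ne, fun e => absurd e b1⟩
  · have b1 : R.fn h hq (R.pi w) ≠ 0 := fun e => h.ln.z_ne (e1.symm.trans (a1.mp e))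
    have b2 : R.fn h hq' (R.pi w) ≠ 0 := fun e => h.ln.z_ne (e2.symm.trans (a2.mp e))
    rw [e1, e2, h.ln.zz]
    have : ∀ x y : ZMod 2, x ≠ 0 → y ≠ 0 → x + y = 0 := by decide
    exact ⟨fun _ => this _ _ b1 b2, fun _ => rfl⟩

namespace Shp

variable [Finite G] (S : Shp R y P d) (h : Fam T V z cf) (hy : y ∈ V) (hy1 : y ≠ 1) (hyz : y ≠ z)
include S h hy hy1 hyz

/-- `Q_z = O_z K_z` -/
theorem qq_eq [FaithfulSMul H M] {q : G} (hq : q ∈ qq V cf z) : ∃ o ∈ OO V cf z, o⁻¹ * q ∈ kk V cf z := by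
  have hz := h.ln.z_mem
  have hz1 := h.ln.z_ne
  have hfM := S.finM
  have two := R.two h
  have hOQ := h.OO_le_qq hz hz1
  let Φ : AddSubgroup (M →+ ZMod 2) :=
    { carrier := {f | ∃ o, ∃ ho : o ∈ OO V cf z, R.fn h (hOQ ho) = f}
      add_mem' := by
        rintro _ _ ⟨o, ho, rfl⟩ ⟨o', ho', rfl⟩
        exact ⟨o * o', mul_mem ho ho', R.fn_mul h _ _⟩
      zero_mem' := by
        refine ⟨1, one_mem _, ?_⟩
        ext m
        obtain ⟨w, hw, rfl⟩ := R.pi_surj m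
        rw [(R.fn_pi h _ hw).mpr (by unfold cm; group)]
        rfl
      neg_mem' := by
        rintro _ ⟨o, ho, rfl⟩
        refine ⟨o, ho, ?_⟩
        ext m
        rw [AddMonoidHom.neg_apply]
        generalize R.fn h (hOQ ho) m = x
        revert x; decide }
  have h1 : R.fn h hq ∈ Φ := by
    refine dual_full two Φ (fun m hm => ?_) _
    obtain ⟨w, hw, rfl⟩ := R.pi_surj m
    refine (R.pi_ker w hw).mpr (S.ann h hy hy1 hyz hw fun o ho => ?_)
    exact cm_eq_one.mp ((R.fn_pi h (hOQ ho) hw).mp (hm _ ⟨o, ho, rfl⟩))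
  obtain ⟨o, ho, e⟩ := h1
  refine ⟨o, ho, ?_⟩
  rw [mem_centralizer_iff]
  intro w hw
  have e1 : R.fn h (hOQ ho) (R.pi w) = R.fn h hq (R.pi w) := by rw [e]
  have e2 : cm o w = 1 ↔ cm q w = 1 := by
    rw [← R.fn_pi h (hOQ ho) hw, ← R.fn_pi h hq hw, e1]
  have e3 : o * w * o⁻¹ = q * w * q⁻¹ := by
    have f1 : ∀ x w : G, x * w * x⁻¹ = cm x w * w := by intro x w; unfold cm; group
    rw [f1, f1]
    congr 1
    rcases h.cm_qw hz hw (hOQ ho) with e4 | e4 <;> rcases h.cm_qw hz hw hq with e5 | e5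
    · rw [e4, e5]
    · exact absurd (e5.symm.trans (e2.mp e4)) hz1
    · exact absurd (e4.symm.trans (e2.mpr e5)) hz1
    · rw [e4, e5]
  calc w * (o⁻¹ * q) = o⁻¹ * (o * w * o⁻¹) * q := by group
    _ = o⁻¹ * (q * w * q⁻¹) * q := by rw [e3]
    _ = o⁻¹ * q * w := by group

/-- `O_z` induces the full dual (pairs) -/
theorem dual2 [FaithfulSMul H M] {w v : G} (hw : w ∈ ww V cf z) (hv : v ∈ ww V cf z) (hw1 : w ≠ 1)
    (hwz : w ≠ z) (hwv : w ≠ v) (hwv' : w ≠ z * v) : ∃ o ∈ OO V cf z, cm o v = 1 ∧ cm o w = z := by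
  have hz := h.ln.z_mem
  have hz1 := h.ln.z_ne
  have hOQ := h.OO_le_qq hz hz1
  have ex : ∀ w ∈ ww V cf z, w ≠ 1 → w ≠ z → ∃ o ∈ OO V cf z, cm o w = z := by
    intro w hw hw1 hwz
    by_contra hcon
    push Not at hcon
    rcases S.ann h hy hy1 hyz hw (fun o ho => cm_eq_one.mp ((h.cm_qw hz hw (hOQ ho)).resolve_right (hcon o ho)))
      with e | e
    · exact hw1 e
    · exact hwz e
  have mulR : ∀ o ∈ OO V cf z, ∀ a ∈ ww V cf z, ∀ b ∈ ww V cf z, cm o (a * b) = cm o a * cm o b := by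
    intro o ho a ha b hb
    rw [cm_mul_right]
    congr 1
    rcases h.cm_qw hz hb (hOQ ho) with e3 | e3
    · rw [e3]; group
    · rw [e3, h.ab a ha z h.z_mem_ww, mul_inv_cancel_right]
  have mulL : ∀ o ∈ OO V cf z, ∀ o' ∈ OO V cf z, ∀ b ∈ ww V cf z, cm (o * o') b = cm o' b * cm o b := by
    intro o ho o' ho' b hb
    rw [cm_mul_left]
    congr 1
    rcases h.cm_qw hz hb (hOQ ho') with e3 | e3
    · rw [e3]; group
    · rw [e3, h.qq_p (hOQ ho), mul_inv_cancel_right]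
  obtain ⟨o1, ho1, e1⟩ := ex w hw hw1 hwz
  rcases h.cm_qw hz hv (hOQ ho1) with e2 | e2
  · exact ⟨o1, ho1, e2, e1⟩
  have hvv := h.sqz v hv
  have hwv1 : w * v ≠ 1 := by
    intro e
    apply hwv
    rw [mul_eq_one_iff_eq_inv.mp e, inv_eq_self hvv]
  have hwvz : w * v ≠ z := by
    intro e
    apply hwv'
    rw [← e, mul_assoc, hvv, mul_one]
  obtain ⟨o2, ho2, e3⟩ := ex (w * v) (mul_mem hw hv) hwv1 hwvz
  rw [mulR o2 ho2 w hw v hv] at e3
  rcases h.cm_qw hz hv (hOQ ho2) with e4 | e4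
  · rw [e4, mul_one] at e3
    exact ⟨o2, ho2, e4, e3⟩
  · have e5 : cm o2 w = 1 := by
      rw [e4] at e3
      exact mul_eq_right.mp e3
    refine ⟨o1 * o2, mul_mem ho1 ho2, ?_, ?_⟩
    · rw [mulL o1 ho1 o2 ho2 v hv, e4, e2, h.ln.zz]
    · rw [mulL o1 ho1 o2 ho2 w hw, e5, e1, one_mul]

end Shp

end module

end Cfsg.Agent.Omega.NO3S.Fit

end

end
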